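import Mathlib

/-! The exponent lemma, abstractly: a group partitioned into at least two classes, each closed under products and
under conjugation, is a `p`-group. -/

set_option autoImplicit false

namespace Cfsg.Agent.Lib.OW.ExpAux

variable {K : Type*} [Group K] [Finite K] {ι : Type*}

theorem exp_lemma (T : Subgroup K) (R : K → ι → Prop)
    (h1 : ∀ x ∈ T, x ≠ 1 → ∃ i, R x i)
    (h2 : ∀ x i j, R x i → R x j → i = j)
    (h3 : ∀ x y i, R x i → R y i → x * y = 1 ∨ R (x * y) i)
    (hinv : ∀ x i, R x i → R x⁻¹ i)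
    (h4 : ∀ x i, R x i → x ≠ 1)
    (h5 : ∀ k ∈ T, ∀ x i, R x i → R (k * x * k⁻¹) i)
    (h6 : ∀ x i, R x i → x ∈ T)
    {g g' : K} {i j : ι} (hg : R g i) (hg' : R g' j) (hij : i ≠ j) :
    ∃ p : ℕ, p.Prime ∧ IsPGroup p T := by
  have hcomm : ∀ x y a b, R x a → R y b → a ≠ b → x * y = y * x := by
    intro x y a b hx hy hab
    by_contra hne
    have hw1 : x * y * x⁻¹ * y⁻¹ ≠ 1 := by
      intro e
      apply hne
      have : x * y * x⁻¹ * y⁻¹ * (y * x) = y * x := by rw [e, one_mul]
      rw [← this]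
      group
    have h7 : R (x * y * x⁻¹ * y⁻¹) b := by
      rcases h3 _ _ b (h5 x (h6 _ _ hx) y b hy) (hinv _ _ hy) with h | h
      · exact absurd h hw1
      · exact h
    have h8 : R (x * y * x⁻¹ * y⁻¹) a := by
      have e : x * y * x⁻¹ * y⁻¹ = x * (y * x⁻¹ * y⁻¹) := by group
      rw [e]
      rcases h3 _ _ a hx (h5 y (h6 _ _ hy) x⁻¹ a (hinv _ _ hx)) with h | h
      · rw [← e] at h
        exact absurd h hw1
      · exact h
    exact hab (h2 _ _ _ h8 h7)
  have hpow : ∀ x a, R x a → ∀ m : ℕ, x ^ m = 1 ∨ R (x ^ m) a := by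
    intro x a hx m
    induction m with
    | zero => exact Or.inl (pow_zero x)
    | succ m ih =>
      rcases ih with h | h
      · rw [pow_succ, h, one_mul]
        exact Or.inr hx
      · rw [pow_succ]
        exact h3 _ _ a h hx
  have hprime : ∀ x y a b (q r : ℕ), R x a → R y b → a ≠ b → q.Prime → r.Prime → orderOf x = q → orderOf y = r → q = r := by
    intro x y a b q r hx hy hab hq hr hox hoy
    by_contra hne
    have hc := hcomm x y a b hx hy hab
    have hxy : x * y ≠ 1 := by
      intro e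
      have : y = x⁻¹ := eq_inv_of_mul_eq_one_right e
      rw [this] at hy
      exact hab (h2 _ _ _ (hinv _ _ hx) hy)
    obtain ⟨l, hl⟩ := h1 _ (mul_mem (h6 _ _ hx) (h6 _ _ hy)) hxy
    have hcc : Commute x y := hc
    have e1 : (x * y) ^ q = y ^ q := by
      rw [hcc.mul_pow, ← hox, pow_orderOf_eq_one, one_mul]
    have e2 : (x * y) ^ r = x ^ r := by
      rw [hcc.mul_pow, ← hoy, pow_orderOf_eq_one, mul_one]
    have n1 : y ^ q ≠ 1 := by
      intro e
      have := orderOf_dvd_of_pow_eq_one e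
      rw [hoy] at this
      exact hne ((Nat.prime_dvd_prime_iff_eq hr hq).1 this).symm
    have n2 : x ^ r ≠ 1 := by
      intro e
      have := orderOf_dvd_of_pow_eq_one e
      rw [hox] at this
      exact hne ((Nat.prime_dvd_prime_iff_eq hq hr).1 this)
    have r1 : R (y ^ q) b := (hpow y b hy q).resolve_left n1
    have r2 : R (x ^ r) a := (hpow x a hx r).resolve_left n2
    have r3 : R (y ^ q) l := by
      rw [← e1]
      exact (hpow _ l hl q).resolve_left (by rw [e1]; exact n1)
    have r4 : R (x ^ r) l := by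
      rw [← e2]
      exact (hpow _ l hl r).resolve_left (by rw [e2]; exact n2)
    exact hab ((h2 _ _ _ r2 r4).trans (h2 _ _ _ r3 r1))
  -- a prime-order power
  have hpp : ∀ x a, R x a → ∃ (q : ℕ) (w : K), q.Prime ∧ R w a ∧ orderOf w = q := by
    intro x a hx
    have hne : orderOf x ≠ 1 := by
      intro e
      exact h4 _ _ hx (orderOf_eq_one_iff.1 e)
    obtain ⟨q, hq, hd⟩ := Nat.exists_prime_and_dvd hne
    have hpos : 0 < orderOf x := orderOf_pos x
    have ho : orderOf (x ^ (orderOf x / q)) = q := by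
      rw [orderOf_pow_orderOf_div hpos.ne' hd]
    refine ⟨q, x ^ (orderOf x / q), hq, ?_, ho⟩
    refine (hpow x a hx _).resolve_left ?_
    intro e
    rw [e, orderOf_one] at ho
    exact hq.one_lt.ne ho
  obtain ⟨p, g1, hp, hg1, hog1⟩ := hpp g i hg
  obtain ⟨s, g2, hs, hg2, hog2⟩ := hpp g' j hg'
  have hsp : p = s := hprime g1 g2 i j p s hg1 hg2 hij hp hs hog1 hog2
  have hall : ∀ y ∈ T, ∀ r : ℕ, r.Prime → orderOf y = r → r = p := by
    intro y hy r hr hoy
    have hy1 : y ≠ 1 := by
      intro e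
      rw [e, orderOf_one] at hoy
      exact hr.one_lt.ne hoy
    obtain ⟨l, hl⟩ := h1 y hy hy1
    by_cases hli : l = i
    · have hlj : l ≠ j := by rw [hli]; exact hij
      rw [hsp]
      exact hprime y g2 l j r s hl hg2 hlj hr hs hoy hog2
    · exact hprime y g1 l i r p hl hg1 hli hr hp hoy hog1
  refine ⟨p, hp, ?_⟩
  intro x
  have hxT : (x : K) ∈ T := x.2
  have hpos : 0 < orderOf (x : K) := orderOf_pos _
  have hun : ∀ {d : ℕ}, d.Prime → d ∣ orderOf (x : K) → d = p := by
    intro d hd hdvd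
    have ho : orderOf ((x : K) ^ (orderOf (x : K) / d)) = d := orderOf_pow_orderOf_div hpos.ne' hdvd
    exact hall _ (pow_mem hxT _) d hd ho
  have he := Nat.eq_prime_pow_of_unique_prime_dvd hpos.ne' hun
  refine ⟨(orderOf (x : K)).primeFactorsList.length, ?_⟩
  apply Subtype.ext
  show (x : K) ^ (p ^ _) = 1
  rw [← he, pow_orderOf_eq_one]

end Cfsg.Agent.Lib.OW.ExpAux
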