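import Cfsg.Agent.Lib.OW.HDefs

/-! [H3] No non-adjacent pairs in Theorem H. See forum 'S3732 notes'. -/

set_option autoImplicit false
set_option linter.unusedSectionVars false

namespace Cfsg.Agent.Lib.OW

namespace H3Aux

open Configuration Nondegenerate HasPoints HasLines BasicsAux

variable {B BL : Type*} [Membership B BL] [Fintype B] [Fintype BL] [ProjectivePlane B BL]
variable {H : Subgroup (Coll B BL)}

theorem exists_line_through (c : B) (l1 l2 : BL) : ∃ m : BL, c ∈ m ∧ m ≠ l1 ∧ m ≠ l2 :=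
  exists_third (P := Dual BL) (L := Dual B) c l1 l2

theorem centre_pt {g : Coll B BL} {c : B} {A : BL} (hp : IsPersp g c A) : g.pt c = c := by
  obtain ⟨l1, h1, -, -⟩ := exists_line_through c A A
  obtain ⟨l2, h2, h2', -⟩ := exists_line_through c l1 l1
  exact pt_fix g (Ne.symm h2') h1 h2 (hp.2 _ h1) (hp.2 _ h2)

theorem fix_or {g : Coll B BL} {c p : B} {A : BL} (hg : g ≠ 1) (hp : IsPersp g c A)
    (hf : g.pt p = p) : p = c ∨ p ∈ A := by
  by_contra hcon
  push Not at hcon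
  obtain ⟨h1, h2⟩ := hcon
  have hp' : IsPersp g p A := by
    refine ⟨hp.1, fun m hpm => ?_⟩
    have hmA : m ≠ A := fun h => h2 (h ▸ hpm)
    have hz := mkPoint_ax (P := B) hmA
    have hxz : p ≠ mkPoint hmA := fun h => h2 (h ▸ hz.2)
    exact ln_fix g hxz hpm hz.1 hf (hp.1 _ hz.2)
  exact h1 (persp_unique g hg hp' hp).1

theorem conj_persp' {g t : Coll B BL} {c : B} {A : BL} (hp : IsPersp g c A) :
    IsPersp (t * g * t⁻¹) (t.pt c) (t.ln A) := by
  refine ⟨fun p hp' => ?_, fun m hm => ?_⟩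
  · have h1 : t.pt⁻¹ p ∈ A := by
      rw [← t.inc]
      simpa using hp'
    show t.pt (g.pt (t.pt⁻¹ p)) = p
    rw [hp.1 _ h1]
    simp
  · have h1 : c ∈ t.ln⁻¹ m := by
      rw [← t.inc]
      simpa using hm
    show t.ln (g.ln (t.ln⁻¹ m)) = m
    rw [hp.2 _ h1]
    simp

theorem conj_invHom {h t : Coll B BL} {c : B} {A : BL} (ht : t ∈ H) (hh : InvHom H h c A) :
    InvHom H (t * h * t⁻¹) (t.pt c) (t.ln A) := by
  obtain ⟨hH', hord, hne, hcA, hp⟩ := hh
  refine ⟨H.mul_mem (H.mul_mem ht hH') (H.inv_mem ht), ?_, ?_, ?_, conj_persp' hp⟩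
  · have := orderOf_injective (MulAut.conj t).toMonoidHom (MulAut.conj t).injective h
    simpa [MulAut.conj_apply, hord] using this
  · intro h0
    apply hne
    have h1 : h = t⁻¹ * (t * h * t⁻¹) * t := by group
    rw [h1, h0]
    simp
  · intro hm
    exact hcA ((t.inc c A).mp hm)

theorem centre_on_line (hH : HHyp H) {u v : B} {A l : BL} (huv : u ≠ v) (huA : u ∈ A) (hvA : v ∈ A)
    (hno1 : ¬ Arrow H u v) (hno2 : ¬ Arrow H v u) (hvl : v ∈ l) (hlA : l ≠ A) :
    ∃ (e : B) (h : Coll B BL), e ∈ l ∧ e ∉ A ∧ InvHom H h e A := by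
  have hul : u ∉ l := fun hul => hlA ((eq_or_eq hul hvl huA hvA).resolve_left huv)
  obtain ⟨e, hel, hev, h, hhH, hord, hfu, hfv, hfe⟩ := hH.hP u v huv l hvl hul
  obtain ⟨c, X, hne, hcX, hpX⟩ := hH.hinv h hhH hord
  rcases fix_or hne hpX hfu with huc | huX
  · rcases fix_or hne hpX hfv with hvc | hvX
    · exact absurd (huc.trans hvc.symm) huv
    · subst huc
      exact absurd ⟨h, X, ⟨hhH, hord, hne, hcX, hpX⟩, hvX⟩ hno1
  · rcases fix_or hne hpX hfv with hvc | hvX
    · subst hvc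
      exact absurd ⟨h, X, ⟨hhH, hord, hne, hcX, hpX⟩, huX⟩ hno2
    · have hXA : X = A := (eq_or_eq huX hvX huA hvA).resolve_left huv
      subst hXA
      have heA : e ∉ X := fun heX => hev ((eq_or_eq hel hvl heX hvX).resolve_right hlA)
      rcases fix_or hne hpX hfe with hec | heX
      · subst hec
        exact ⟨e, h, hel, heA, hhH, hord, hne, hcX, hpX⟩
      · exact absurd heX heA

theorem TT_pt {A : BL} {g : Coll B BL} (hg : g ∈ TT H A) {p : B} (hp : p ∈ A) : g.pt p = p := by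
  rcases hg.2 with rfl | ⟨c, -, -, h, -⟩
  · rfl
  · exact h p hp

theorem TT_ln_self {A : BL} {g : Coll B BL} (hg : g ∈ TT H A) : g.ln A = A := by
  obtain ⟨z, -⟩ := Nondegenerate.exists_point (P := B) A
  obtain ⟨u, hu, -, -⟩ := exists_third A z z
  obtain ⟨v, hv, hvu, -⟩ := exists_third A u u
  exact ln_fix g (Ne.symm hvu) hu hv (TT_pt hg hu) (TT_pt hg hv)

theorem TT_semireg {A : BL} {g : Coll B BL} (hg : g ∈ TT H A) {p : B} (hp : p ∉ A) (hf : g.pt p = p) :
    g = 1 := by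
  rcases hg.2 with h | ⟨c, hne, hc, hper⟩
  · exact h
  · rcases fix_or hne hper hf with h | h
    · exact absurd (h ▸ hc) hp
    · exact absurd h hp

theorem exists_TT (hH : HHyp H) {e e' : B} {A : BL} {h h' : Coll B BL} (hh : InvHom H h e A)
    (hh' : InvHom H h' e' A) : ∃ g ∈ TT H A, g.pt e = e' := by
  by_cases hee : e = e'
  · exact ⟨1, (TT H A).one_mem, hee⟩
  have hk := (mul_mem_TT hh' hh (Ne.symm hee)).1
  obtain ⟨m, hm⟩ := (TT_inverted hH hh').2
  have hpow : (⟨h' * h, hk⟩ : TT H A) ^ (2 * m + 1) = 1 := by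
    rw [← hm]
    exact pow_card_eq_one'
  have hpow' : (h' * h) ^ (2 * m + 1) = 1 := by
    have := congrArg Subtype.val hpow
    simpa using this
  refine ⟨(h' * h) ^ (m + 1), Subgroup.pow_mem _ hk _, ?_⟩
  set t := (h' * h) ^ (m + 1) with ht
  have ht2 : t * t = h' * h := by
    rw [ht, ← pow_add, show m + 1 + (m + 1) = (2 * m + 1) + 1 by ring, pow_succ, hpow', one_mul]
  have hinv := (TT_inverted hH hh).1 t (Subgroup.pow_mem _ hk _)
  have h22 : h * h = 1 := by
    rw [← pow_two, ← hh.2.1]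
    exact pow_orderOf_eq_one h
  have h2i : h⁻¹ = h := inv_eq_of_mul_eq_one_left h22
  rw [h2i] at hinv
  have h3 : h * t⁻¹ = t * h := by
    rw [← hinv]
    calc h * (h * t * h)⁻¹⁻¹ = h * (h * t * h) := by simp
      _ = (h * h) * t * h := by group
      _ = t * h := by rw [h22, one_mul]
  have hconj : t * h * t⁻¹ = h' := by
    calc t * h * t⁻¹ = t * (h * t⁻¹) := by group
      _ = t * (t * h) := by rw [h3]
      _ = (t * t) * h := by group
      _ = h' * h * h := by rw [ht2]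
      _ = h' := by rw [mul_assoc, h22, mul_one]
  have hp1 : IsPersp (t * h * t⁻¹) (t.pt e) (t.ln A) := conj_persp' hh.2.2.2.2
  rw [hconj] at hp1
  exact (persp_unique h' hh'.2.2.1 hp1 hh'.2.2.2.2).1

/-- `TT H A` acts on the lines through `v ∈ A` other than `A`. -/
abbrev actTT {v : B} {A : BL} (hvA : v ∈ A) : MulAction (TT H A) {l : BL // v ∈ l ∧ l ≠ A} where
  smul g l := ⟨g.1.ln l.1, by
    have := (g.1.inc v l.1).mpr l.2.1
    rwa [TT_pt g.2 hvA] at this, fun h => l.2.2 (g.1.ln.injective (by rw [h, TT_ln_self g.2]))⟩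
  one_smul x := Subtype.ext rfl
  mul_smul e f x := Subtype.ext rfl

/-- `μ` divides `|TT H A|` if `A` carries a non-adjacent pair. -/
theorem mu_dvd (hH : HHyp H) {u v : B} {A : BL} (huv : u ≠ v) (huA : u ∈ A) (hvA : v ∈ A)
    (hno1 : ¬ Arrow H u v) (hno2 : ¬ Arrow H v u) :
    ProjectivePlane.order B BL ∣ Nat.card (TT H A) := by
  classical
  letI := actTT (H := H) hvA
  let S := {l : BL // v ∈ l ∧ l ≠ A}
  have htrans : MulAction.IsPretransitive (TT H A) S := by
    refine ⟨fun l l' => ?_⟩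
    obtain ⟨e, h, he, heA, hh⟩ := centre_on_line hH huv huA hvA hno1 hno2 l.2.1 l.2.2
    obtain ⟨e', h', he', heA', hh'⟩ := centre_on_line hH huv huA hvA hno1 hno2 l'.2.1 l'.2.2
    obtain ⟨g, hg, hge⟩ := exists_TT hH hh hh'
    refine ⟨⟨g, hg⟩, Subtype.ext ?_⟩
    show g.ln l.1 = l'.1
    have h1 : e' ∈ g.ln l.1 := by
      have := (g.inc e l.1).mpr he
      rwa [hge] at this
    have h2 : v ∈ g.ln l.1 := by
      have := (g.inc v l.1).mpr l.2.1
      rwa [TT_pt hg hvA] at this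
    have hne : e' ≠ v := fun h0 => heA' (h0 ▸ hvA)
    exact (eq_or_eq h1 h2 he' l'.2.1).resolve_left hne
  obtain ⟨l0, hl0, hl0A, -⟩ := exists_line_through v A A
  have hS : Nat.card S = ProjectivePlane.order B BL := by
    have hcount := ProjectivePlane.lineCount_eq BL v
    have h3 : Configuration.lineCount BL v = Nat.card {l : BL // v ∈ l} := rfl
    have h4 : Nat.card S = (({l : BL | v ∈ l} \ {A}) : Set BL).ncard := by
      rw [← Nat.card_coe_set_eq]
      rfl
    have h5 : Nat.card {l : BL // v ∈ l} = ({l : BL | v ∈ l} : Set BL).ncard := by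
      rw [← Nat.card_coe_set_eq]
      rfl
    have h6 := Set.ncard_sdiff_singleton_add_one (s := ({l : BL | v ∈ l} : Set BL)) (a := A) hvA
      (Set.toFinite _)
    omega
  have hidx := MulAction.index_stabilizer_of_transitive (TT H A) (⟨l0, hl0, hl0A⟩ : S)
  rw [← hS, ← hidx]
  exact Subgroup.index_dvd_card _

/-- `w` (involution, fixing `A`) fixes a centre of an involutory homology with axis `A`. -/
theorem exists_fixed_centre (hH : HHyp H) {A : BL} {e0 : B} {h0 : Coll B BL} (hh0 : InvHom H h0 e0 A)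
    {w : Coll B BL} (hwH : w ∈ H) (hwA : w.ln A = A) (hw2 : w * w = 1) :
    ∃ (e : B) (h : Coll B BL), InvHom H h e A ∧ w.pt e = e := by
  classical
  let C := {e : B // ∃ h : Coll B BL, InvHom H h e A}
  have hcard : Nat.card (TT H A) = Nat.card C := by
    refine Nat.card_congr (Equiv.ofBijective (fun g : TT H A => (⟨g.1.pt e0, g.1 * h0 * g.1⁻¹, by
      have := conj_invHom (t := g.1) g.2.1 hh0
      rwa [TT_ln_self g.2] at this⟩ : C)) ⟨?_, ?_⟩)
    · intro g g' hgg
      have h1 : g.1.pt e0 = g'.1.pt e0 := congrArg Subtype.val hgg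
      have h2 : g'.1⁻¹ * g.1 ∈ TT H A := (TT H A).mul_mem ((TT H A).inv_mem g'.2) g.2
      have h3 : (g'.1⁻¹ * g.1).pt e0 = e0 := by
        show g'.1.pt⁻¹ (g.1.pt e0) = e0
        rw [h1]
        simp
      have h4 := TT_semireg h2 hh0.2.2.2.1 h3
      apply Subtype.ext
      exact (inv_mul_eq_one.mp h4).symm
    · rintro ⟨e, h, hh⟩
      obtain ⟨g, hg, hge⟩ := exists_TT hH hh0 hh
      exact ⟨⟨g, hg⟩, Subtype.ext hge⟩
  have hodd : Odd (Nat.card C) := hcard ▸ (TT_inverted hH hh0).2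
  by_contra hcon
  push Not at hcon
  have hmem : ∀ e : C, ∃ h : Coll B BL, InvHom H h (w.pt e.1) A := by
    rintro ⟨e, h, hh⟩
    refine ⟨w * h * w⁻¹, ?_⟩
    have := conj_invHom (t := w) hwH hh
    rwa [hwA] at this
  let f : C → C := fun e => ⟨w.pt e.1, hmem e⟩
  have hf : Function.Involutive f := by
    intro e
    apply Subtype.ext
    show w.pt (w.pt e.1) = e.1
    have : (w * w).pt e.1 = e.1 := by rw [hw2]; rfl
    exact this
  have hne : ∀ e : C, f e ≠ e := by
    rintro ⟨e, h, hh⟩ h0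
    exact hcon e h hh (congrArg Subtype.val h0)
  have hperm : (hf.toPerm) ^ 2 = 1 := by
    ext e
    simp [pow_two, hf (e)]
  have h2 := Equiv.Perm.two_dvd_card_support hperm
  have hsup : (hf.toPerm).support = Finset.univ := by
    ext e
    simp only [Equiv.Perm.mem_support, Finset.mem_univ, iff_true]
    exact hne e
  rw [hsup, Finset.card_univ, ← Nat.card_eq_fintype_card] at h2
  exact (Nat.not_even_iff_odd.mpr hodd) (even_iff_two_dvd.mpr h2)

/-- [H3] -/
theorem main (hH : HHyp H) (hμ : ¬ IsPrimePow (ProjectivePlane.order B BL)) (a b : B) (hab : a ≠ b) :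
    Arrow H a b ∨ Arrow H b a := by
  classical
  by_contra hcon
  push Not at hcon
  obtain ⟨hn1, hn2⟩ := hcon
  obtain ⟨A, hA⟩ : ∃ A : BL, a ∈ A ∧ b ∈ A := ⟨mkLine hab, mkLine_ax hab⟩
  have hdvd := mu_dvd hH hab hA.1 hA.2 hn1 hn2
  have h1μ : 1 < ProjectivePlane.order B BL := ProjectivePlane.one_lt_order B BL
  have hpp : ∀ (K : Subgroup (Coll B BL)) (p : ℕ), p.Prime → IsPGroup p K →
      ¬ (ProjectivePlane.order B BL ∣ Nat.card K) := by
    intro K p hp hK hd
    haveI : Fact p.Prime := ⟨hp⟩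
    obtain ⟨k, hk⟩ := IsPGroup.iff_card.mp hK
    rw [hk] at hd
    obtain ⟨j, -, hj⟩ := (Nat.dvd_prime_pow hp).mp hd
    apply hμ
    refine ⟨p, j, hp.prime, ?_, hj.symm⟩
    rcases Nat.eq_zero_or_pos j with h0 | h0
    · subst h0
      simp at hj
      omega
    · exact h0
  have hTne : TT H A ≠ ⊥ := by
    intro hbot
    rw [hbot, Subgroup.card_bot] at hdvd
    have := Nat.dvd_one.mp hdvd
    omega
  obtain ⟨g0, hg0, hg01⟩ := (Subgroup.bot_or_exists_ne_one (TT H A)).resolve_left hTne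
  obtain ⟨c0, hc0⟩ : ∃ c0, IsElation g0 c0 A := hg0.2.resolve_left hg01
  have hall : ∀ g ∈ TT H A, g = 1 ∨ IsElation g c0 A := by
    intro g hg
    rcases hg.2 with h1 | ⟨c, hc⟩
    · exact Or.inl h1
    · by_cases hcc : c = c0
      · right
        rw [← hcc]
        exact hc
      · exfalso
        obtain ⟨p, hp, hP⟩ := TT_pgroup hg0.1 hg.1 hc0 hc (Ne.symm hcc)
        exact hpp _ p hp hP hdvd
  have hc0A : c0 ∈ A := hc0.2.1
  have hTE : TT H A ≤ EE H c0 := fun g hg => ⟨hg.1, (hall g hg).imp id (fun h => ⟨A, h⟩)⟩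
  have hadj : ∀ a' ∈ A, a' ≠ c0 → Arrow H a' c0 ∨ Arrow H c0 a' := by
    intro a' ha' hne
    by_contra hcon
    push Not at hcon
    obtain ⟨hn3, hn4⟩ := hcon
    obtain ⟨l1, hl1, hl1A, -⟩ := exists_line_through c0 A A
    obtain ⟨l2, hl2, hl2A, hl21⟩ := exists_line_through c0 A l1
    obtain ⟨e1, h1, he1, he1A, hh1⟩ := centre_on_line hH hne ha' hc0A hn3 hn4 hl1 hl1A
    obtain ⟨e2, h2, he2, he2A, hh2⟩ := centre_on_line hH hne ha' hc0A hn3 hn4 hl2 hl2A
    obtain ⟨g, hg, hge⟩ := exists_TT hH hh1 hh2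
    have hgl : g.ln l1 = l1 := by
      rcases hall g hg with rfl | h
      · rfl
      · exact h.2.2.2 l1 hl1
    have h3 : e2 ∈ l1 := by
      have := (g.inc e1 l1).mpr he1
      rwa [hgl, hge] at this
    have h4 : e2 = c0 := (eq_or_eq he2 hl2 h3 hl1).resolve_right hl21
    exact he2A (h4 ▸ hc0A)
  obtain ⟨e0, h0, -, -, hh0⟩ : ∃ (e : B) (h : Coll B BL), e ∈ (Classical.choose (exists_line_through b A A)) ∧ e ∉ A ∧ InvHom H h e A := by
    have hs := Classical.choose_spec (exists_line_through b A A)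
    exact centre_on_line hH hab hA.1 hA.2 hn1 hn2 hs.1 hs.2.1
  have hsym : ∀ a' ∈ A, a' ≠ c0 → Arrow H a' c0 → Arrow H c0 a' := by
    rintro a' ha' hne ⟨h', X, hh', hc0X⟩
    have hlnA : h'.ln A = A := hh'.2.2.2.2.2 A ha'
    have h'2 : h' * h' = 1 := by
      rw [← pow_two, ← hh'.2.1]
      exact pow_orderOf_eq_one h'
    have h'i : h'⁻¹ = h' := inv_eq_of_mul_eq_one_left h'2
    obtain ⟨e, he, hhe, hfix⟩ := exists_fixed_centre hH hh0 hh'.1 hlnA h'2
    have heA : e ∉ A := hhe.2.2.2.1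
    have hea : e ≠ a' := fun h0 => heA (h0 ▸ ha')
    have heX : e ∈ X := (fix_or hh'.2.2.1 hh'.2.2.2.2 hfix).resolve_left hea
    have hcomm : h' * he * h'⁻¹ = he := by
      have := conj_invHom (t := h') hh'.1 hhe
      rw [hfix, hlnA] at this
      exact invHom_unique hTne this hhe
    rw [h'i] at hcomm
    have he2 : he * he = 1 := by
      rw [← pow_two, ← hhe.2.1]
      exact pow_orderOf_eq_one he
    have hww : (h' * he) * (h' * he) = 1 := by
      calc (h' * he) * (h' * he) = (h' * he * h') * he := by group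
        _ = he * he := by rw [hcomm]
        _ = 1 := he2
    have hw1 : h' * he ≠ 1 := by
      intro h0
      have h1 : he = h' := by
        rw [eq_inv_of_mul_eq_one_right h0, h'i]
      rw [h1] at hhe
      exact hea (persp_unique h' hh'.2.2.1 hhe.2.2.2.2 hh'.2.2.2.2).1
    have hword : orderOf (h' * he) = 2 :=
      orderOf_eq_prime (by rw [pow_two]; exact hww) hw1
    have hwH : h' * he ∈ H := H.mul_mem hh'.1 hhe.1
    obtain ⟨c, Y, hwne, hcY, hpY⟩ := hH.hinv _ hwH hword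
    have hfw : ∀ p, he.pt p = p → h'.pt p = p → (h' * he).pt p = p := by
      intro p h1 h2
      show h'.pt (he.pt p) = p
      rw [h1, h2]
    have hfa' := hfw a' (hhe.2.2.2.2.1 a' ha') (centre_pt hh'.2.2.2.2)
    have hfc0 := hfw c0 (hhe.2.2.2.2.1 c0 hc0A) (hh'.2.2.2.2.1 c0 hc0X)
    have hfe := hfw e (centre_pt hhe.2.2.2.2) hfix
    by_cases hc : c = c0
    · rw [hc] at hpY hcY
      have h1 : a' ∈ Y := (fix_or hwne hpY hfa').resolve_left hne
      exact ⟨h' * he, Y, ⟨hwH, hword, hwne, hcY, hpY⟩, h1⟩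
    · exfalso
      have hc0Y : c0 ∈ Y := (fix_or hwne hpY hfc0).resolve_left (Ne.symm hc)
      have ha'X : a' ∉ X := hh'.2.2.2.1
      by_cases hca : c = a'
      · have heY : e ∈ Y := (fix_or hwne hpY hfe).resolve_left (fun h => hea (h.trans hca))
        have hc0e : c0 ≠ e := fun h => heA (h ▸ hc0A)
        have hYX : Y = X := (eq_or_eq hc0Y heY hc0X heX).resolve_left hc0e
        have hAX : A = X := by
          refine axis_unique he hhe.2.2.1 hhe.2.2.2.2.1 (fun p hp => ?_)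
          have h1 : (h' * he).pt p = p := hpY.1 p (hYX ▸ hp)
          have h2 : h'.pt p = p := hh'.2.2.2.2.1 p hp
          apply h'.pt.injective
          rw [h2]
          exact h1
        exact ha'X (hAX ▸ ha')
      · have ha'Y : a' ∈ Y := (fix_or hwne hpY hfa').resolve_left (fun h => hca h.symm)
        have hYA : Y = A := (eq_or_eq ha'Y hc0Y ha' hc0A).resolve_left hne
        have hAX : A = X := by
          refine axis_unique h' hh'.2.2.1 (fun p hp => ?_) hh'.2.2.2.2.1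
          have h1 : (h' * he).pt p = p := hpY.1 p (hYA ▸ hp)
          have h2 : he.pt p = p := hhe.2.2.2.2.1 p hp
          have h3 : h'.pt (he.pt p) = p := h1
          rwa [h2] at h3
        exact ha'X (hAX ▸ ha')
  have har : ∀ a' ∈ A, a' ≠ c0 → Arrow H c0 a' :=
    fun a' h h' => (hadj a' h h').elim (hsym a' h h') id
  obtain ⟨a1, ha1, ha1c, -⟩ := exists_third A c0 c0
  obtain ⟨a2, ha2, ha2c, ha21⟩ := exists_third A c0 a1
  obtain ⟨h1, X1, hh1, ha1X⟩ := har a1 ha1 ha1c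
  obtain ⟨h2, X2, hh2, ha2X⟩ := har a2 ha2 ha2c
  have hX1A : X1 ≠ A := fun e => hh1.2.2.2.1 (e ▸ hc0A)
  have hX2A : X2 ≠ A := fun e => hh2.2.2.2.1 (e ▸ hc0A)
  have hX : X1 ≠ X2 := by
    intro e
    have h3 : a2 ∈ X1 := e ▸ ha2X
    exact hX1A ((eq_or_eq ha1X h3 ha1 ha2).resolve_left (Ne.symm ha21))
  obtain ⟨hm, hne⟩ := mul_mem_EE hh1 hh2 hX
  obtain ⟨A2, hA2⟩ := hm.2.resolve_left hne
  have hz := mkPoint_ax (P := B) hX
  have hzfix : (h1 * h2).pt (mkPoint hX) = mkPoint hX := by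
    show h1.pt (h2.pt (mkPoint hX)) = mkPoint hX
    rw [hh2.2.2.2.2.1 _ hz.2, hh1.2.2.2.2.1 _ hz.1]
  have hzc : (mkPoint hX : B) ≠ c0 := fun e => hh1.2.2.2.1 (e ▸ hz.1)
  have hzA2 : (mkPoint hX : B) ∈ A2 := (fix_or hne hA2.2.2 hzfix).resolve_left hzc
  have hAA2 : A ≠ A2 := by
    intro e
    have hzA : (mkPoint hX : B) ∈ A := e ▸ hzA2
    have e1 : (mkPoint hX : B) = a1 := (eq_or_eq hz.1 ha1X hzA ha1).resolve_right hX1A
    have e2 : (mkPoint hX : B) = a2 := (eq_or_eq hz.2 ha2X hzA ha2).resolve_right hX2A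
    exact ha21 (e2.symm.trans e1)
  obtain ⟨p, hp, hP⟩ := EE_pgroup hg0.1 hm.1 hc0 hA2 hAA2
  exact hpp (EE H c0) p hp hP (hdvd.trans (Subgroup.card_dvd_of_le hTE))

end H3Aux

end Cfsg.Agent.Lib.OW
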