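import Cfsg.Agent.Lib.OW.Sub
import Cfsg.Agent.Lib.OW.Th2

/-! Auxiliary facts for the Key Lemma (`OddNPP.induced_hP`). See forum 'S3732 notes'. -/

set_option autoImplicit false
set_option linter.style.haveILetI false
set_option linter.unusedSectionVars false
set_option linter.unusedVariables false

namespace Cfsg.Agent.Lib.OW.KeyAux

open Configuration Cfsg.Agent.Lib.OW

universe u v

section abstract

/-- Two transitive actions of coprime degree: the product action is transitive. -/
theorem coprime_pair {X A B : Type*} [Group X] [Finite X] [MulAction X A] [MulAction X B] [Finite A] [Finite B]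
    (hA : ∀ x y : A, ∃ g : X, g • x = y) (hB : ∀ x y : B, ∃ g : X, g • x = y)
    (hc : (Nat.card A).Coprime (Nat.card B)) (a a' : A) (b b' : B) :
    ∃ g : X, g • a = a' ∧ g • b = b' := by
  classical
  haveI : MulAction.IsPretransitive X A := ⟨hA⟩
  haveI : MulAction.IsPretransitive X B := ⟨hB⟩
  have h1 : (MulAction.stabilizer X a).index = Nat.card A := MulAction.index_stabilizer_of_transitive X a
  have h2 : (MulAction.stabilizer X b).index = Nat.card B := MulAction.index_stabilizer_of_transitive X b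
  have h3 : (MulAction.stabilizer X (a, b)).index = (MulAction.orbit X (a, b)).ncard := MulAction.index_stabilizer X (a, b)
  have hle1 : MulAction.stabilizer X (a, b) ≤ MulAction.stabilizer X a := by
    intro g hg
    have : g • (a, b) = (a, b) := hg
    exact congrArg Prod.fst this
  have hle2 : MulAction.stabilizer X (a, b) ≤ MulAction.stabilizer X b := by
    intro g hg
    have : g • (a, b) = (a, b) := hg
    exact congrArg Prod.snd this
  have hd1 : Nat.card A ∣ (MulAction.orbit X (a, b)).ncard := by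
    rw [← h1, ← h3]; exact Subgroup.index_dvd_of_le hle1
  have hd2 : Nat.card B ∣ (MulAction.orbit X (a, b)).ncard := by
    rw [← h2, ← h3]; exact Subgroup.index_dvd_of_le hle2
  have hd : Nat.card A * Nat.card B ∣ (MulAction.orbit X (a, b)).ncard := Nat.Coprime.mul_dvd_of_dvd_of_dvd hc hd1 hd2
  have hpos : 0 < (MulAction.orbit X (a, b)).ncard := by
    rw [Set.ncard_pos]
    exact ⟨(a, b), MulAction.mem_orbit_self _⟩
  have hle : Nat.card A * Nat.card B ≤ (MulAction.orbit X (a, b)).ncard := Nat.le_of_dvd hpos hd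
  have huniv : MulAction.orbit X (a, b) = Set.univ := by
    apply Set.eq_of_subset_of_ncard_le (Set.subset_univ _)
    rw [Set.ncard_univ, Nat.card_prod]
    exact hle
  have hmem : (a', b') ∈ MulAction.orbit X (a, b) := by
    rw [huniv]; exact Set.mem_univ _
  obtain ⟨g, hg⟩ := hmem
  have hg' : g • (a, b) = (a', b') := hg
  exact ⟨g, congrArg Prod.fst hg', congrArg Prod.snd hg'⟩

end abstract

variable {P : Type u} {L : Type v} [Membership P L] [Fintype P] [Fintype L] [ProjectivePlane P L]

theorem card_pts_on (l : L) : Nat.card {p : P // p ∈ l} = ProjectivePlane.order P L + 1 :=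
  ProjectivePlane.pointCount_eq P l

theorem card_lines_thru (p : P) : Nat.card {l : L // p ∈ l} = ProjectivePlane.order P L + 1 :=
  ProjectivePlane.lineCount_eq L p

theorem card_off (m : L) : Nat.card {p : P // p ∉ m} = ProjectivePlane.order P L ^ 2 := by
  classical
  have h := Fintype.card_subtype_compl (fun p : P => p ∈ m)
  have h1 := card_pts_on (P := P) m
  rw [Nat.card_eq_fintype_card] at h1
  rw [Nat.card_eq_fintype_card, h, h1, ProjectivePlane.card_points P L]
  omega

theorem card_lines_off (a : P) : Nat.card {l : L // a ∉ l} = ProjectivePlane.order P L ^ 2 := by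
  classical
  have h := Fintype.card_subtype_compl (fun l : L => a ∈ l)
  have h1 := card_lines_thru (L := L) a
  rw [Nat.card_eq_fintype_card] at h1
  rw [Nat.card_eq_fintype_card, h, h1, ProjectivePlane.card_lines P L]
  omega

/-- A `2`-group of collineations has a fixed point in an invariant set of odd size. -/
theorem exists_fixed_of_odd (X : Subgroup (Coll P L)) (hX : IsPGroup 2 X) (Y : Set P)
    (hY : ∀ x ∈ X, ∀ p ∈ Y, x.pt p ∈ Y) (hodd : Odd (Nat.card Y)) : ∃ p ∈ Y, ∀ x ∈ X, x.pt p = p := by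
  classical
  haveI : Fact (Nat.Prime 2) := ⟨Nat.prime_two⟩
  letI : MulAction X Y :=
    { smul := fun x p => ⟨x.1.pt p.1, hY _ x.2 _ p.2⟩
      one_smul := fun p => Subtype.ext rfl
      mul_smul := fun x y p => Subtype.ext rfl }
  have hnd : ¬ 2 ∣ Nat.card Y := by
    rw [← even_iff_two_dvd, Nat.not_even_iff_odd]
    exact hodd
  obtain ⟨p, hp⟩ := hX.nonempty_fixed_point_of_prime_not_dvd_card Y hnd
  refine ⟨p.1, p.2, fun x hx => ?_⟩
  have := hp ⟨x, hx⟩
  exact congrArg Subtype.val this

theorem exists_two (l : L) : ∃ p q : P, p ∈ l ∧ q ∈ l ∧ p ≠ q := by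
  have h1 : 1 < Nat.card {p : P // p ∈ l} := by
    rw [card_pts_on]
    have := ProjectivePlane.one_lt_order P L
    omega
  haveI : Nontrivial {p : P // p ∈ l} := Finite.one_lt_card_iff_nontrivial.1 h1
  obtain ⟨p, q, hpq⟩ := exists_pair_ne {p : P // p ∈ l}
  exact ⟨p.1, q.1, p.2, q.2, fun e => hpq (Subtype.ext e)⟩

theorem line_eq {l l' : L} (h : ∀ p : P, p ∈ l → p ∈ l') : l = l' := by
  obtain ⟨p, q, hp, hq, hpq⟩ := exists_two (P := P) l
  exact (Nondegenerate.eq_or_eq hp hq (h p hp) (h q hq)).resolve_left hpq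

theorem coll_eq_one (w : Coll P L) (h : ∀ p, w.pt p = p) : w = 1 := by
  refine Coll.ext (Equiv.ext h) (Equiv.ext fun l => ?_)
  show w.ln l = l
  apply line_eq (P := P)
  intro p hp
  have := (w.inc p l).1 (by rw [h p]; exact hp)
  exact this

theorem ln_fix (w : Coll P L) {a b : P} {m : L} (ha : a ∈ m) (hb : b ∈ m) (hab : a ≠ b)
    (h1 : w.pt a = a) (h2 : w.pt b = b) : w.ln m = m := by
  have h3 : a ∈ w.ln m := by
    have := (w.inc a m).2 ha
    rwa [h1] at this
  have h4 : b ∈ w.ln m := by
    have := (w.inc b m).2 hb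
    rwa [h2] at this
  exact (Nondegenerate.eq_or_eq h3 h4 ha hb).resolve_left hab

/-- An involution of a plane of odd order has two fixed points. -/
theorem inv_two_fix (hn : Odd (ProjectivePlane.order P L)) (σ : Coll P L) (hσ : orderOf σ = 2) :
    ∃ x y : P, x ≠ y ∧ σ.pt x = x ∧ σ.pt y = y := by
  classical
  haveI : Fact (Nat.Prime 2) := ⟨Nat.prime_two⟩
  have hσσ1 : σ * σ = 1 := by
    rw [← pow_two, ← hσ]
    exact pow_orderOf_eq_one σ
  have hσσ : ∀ p, σ.pt (σ.pt p) = p := by
    intro p
    have := congrArg (fun g : Coll P L => g.pt p) hσσ1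
    exact this
  have hX : IsPGroup 2 (Subgroup.zpowers σ) := IsPGroup.of_card (n := 1) (by rw [Nat.card_zpowers, hσ, pow_one])
  have hz : ∀ x ∈ Subgroup.zpowers σ, x = 1 ∨ x = σ := by
    intro x hx
    obtain ⟨k, rfl⟩ := Subgroup.mem_zpowers_iff.1 hx
    rw [← zpow_mod_orderOf, hσ]
    rcases Int.emod_two_eq_zero_or_one k with h | h
    · left
      have : k % ((2 : ℕ) : ℤ) = 0 := by exact_mod_cast h
      rw [this, zpow_zero]
    · right
      have : k % ((2 : ℕ) : ℤ) = 1 := by exact_mod_cast h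
      rw [this, zpow_one]
  have hfix : ∀ Y : Set P, (∀ p ∈ Y, σ.pt p ∈ Y) → Odd (Nat.card Y) → ∃ p ∈ Y, σ.pt p = p := by
    intro Y hY hodd
    obtain ⟨p, hp, hq⟩ := exists_fixed_of_odd (Subgroup.zpowers σ) hX Y (by
      intro x hx p hp
      rcases hz x hx with rfl | rfl
      · exact hp
      · exact hY p hp) hodd
    exact ⟨p, hp, hq σ (Subgroup.mem_zpowers σ)⟩
  -- a first fixed point
  have hv : Odd (Nat.card (Set.univ : Set P)) := by
    rw [Nat.card_congr (Equiv.Set.univ P), Nat.card_eq_fintype_card, ProjectivePlane.card_points P L]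
    have : Even (ProjectivePlane.order P L ^ 2 + ProjectivePlane.order P L) := by
      have h1 : Odd (ProjectivePlane.order P L ^ 2) := hn.pow
      exact h1.add_odd hn
    exact this.add_one
  obtain ⟨x₀, -, hx₀⟩ := hfix Set.univ (fun _ _ => Set.mem_univ _) hv
  -- a fixed line
  have hline : ∀ p : P, σ.pt p ≠ p → ∃ t : L, p ∈ t ∧ σ.ln t = t := by
    intro p hp
    have hne : p ≠ σ.pt p := fun e => hp e.symm
    refine ⟨HasLines.mkLine hne, (HasLines.mkLine_ax hne).1, ?_⟩
    have h1 := (HasLines.mkLine_ax (L := L) hne).1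
    have h2 := (HasLines.mkLine_ax (L := L) hne).2
    have h3 : σ.pt p ∈ σ.ln (HasLines.mkLine hne) := (σ.inc _ _).2 h1
    have h4 : p ∈ σ.ln (HasLines.mkLine hne) := by
      have := (σ.inc _ _).2 h2
      rwa [hσσ] at this
    exact (Nondegenerate.eq_or_eq h4 h3 h1 h2).resolve_left hne
  by_contra hcon
  push Not at hcon
  have hno : ∀ y, y ≠ x₀ → σ.pt y ≠ y := fun y hy h => hcon x₀ y hy.symm hx₀ h
  -- a point other than `x₀`
  obtain ⟨p, hp⟩ : ∃ p : P, p ≠ x₀ := by
    obtain ⟨_, _, _, l₀, _⟩ := ProjectivePlane.exists_config (P := P) (L := L)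
    obtain ⟨u, w, -, -, huw⟩ := exists_two (P := P) l₀
    by_cases h : u = x₀
    · exact ⟨w, fun e => huw (h.trans e.symm)⟩
    · exact ⟨u, h⟩
  obtain ⟨t, hpt, htfix⟩ := hline p (hno p hp)
  by_cases hx₀t : x₀ ∈ t
  · -- fixed point on `t` other than `x₀`
    have hodd : Odd (Nat.card (({q : P | q ∈ t} \ {x₀} : Set P))) := by
      have h1 := Set.ncard_diff_singleton_add_one (s := {q : P | q ∈ t}) hx₀t (Set.toFinite _)
      have h2 : ({q : P | q ∈ t} : Set P).ncard = ProjectivePlane.order P L + 1 := by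
        rw [← Nat.card_coe_set_eq]
        exact card_pts_on t
      rw [Nat.card_coe_set_eq]
      have h3 : ({q : P | q ∈ t} \ {x₀} : Set P).ncard = ProjectivePlane.order P L := by omega
      rw [h3]
      exact hn
    obtain ⟨y, hy, hyf⟩ := hfix _ (by
      rintro q ⟨hq, hq'⟩
      refine ⟨?_, ?_⟩
      · have := (σ.inc q t).2 hq
        rwa [htfix] at this
      · intro e
        apply hq'
        have e' : σ.pt q = x₀ := e
        have : σ.pt q = σ.pt x₀ := by rw [e', hx₀]
        exact σ.pt.injective this) hodd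
    exact hno y hy.2 hyf
  · -- a second fixed line
    have h1 : 1 < Nat.card {q : P // q ∉ t} := by
      rw [card_off]
      have := ProjectivePlane.one_lt_order P L
      nlinarith
    haveI : Nontrivial {q : P // q ∉ t} := Finite.one_lt_card_iff_nontrivial.1 h1
    obtain ⟨q, hq⟩ := exists_ne (⟨x₀, hx₀t⟩ : {q : P // q ∉ t})
    have hq0 : q.1 ≠ x₀ := fun e => hq (Subtype.ext e)
    obtain ⟨t', hqt', ht'fix⟩ := hline q.1 (hno q.1 hq0)
    have hne : t ≠ t' := fun e => q.2 (e ▸ hqt')
    have hy1 := (HasPoints.mkPoint_ax (P := P) hne).1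
    have hy2 := (HasPoints.mkPoint_ax (P := P) hne).2
    set y := (HasPoints.mkPoint hne : P) with hy
    have hy3 : σ.pt y ∈ t := by
      have := (σ.inc y t).2 hy1
      rwa [htfix] at this
    have hy4 : σ.pt y ∈ t' := by
      have := (σ.inc y t').2 hy2
      rwa [ht'fix] at this
    have hyy : σ.pt y = y := (Nondegenerate.eq_or_eq hy3 hy1 hy4 hy2).resolve_right hne
    exact hno y (fun e => hx₀t (e ▸ hy1)) hyy

/-- The stabilizer of two points contains an involution. -/
theorem exists_inv_stab {G : Subgroup (Coll P L)} (hG : TwoTrans G) (hn : Odd (ProjectivePlane.order P L))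
    {a b : P} (hab : a ≠ b) : ∃ τ ∈ G, orderOf τ = 2 ∧ τ.pt a = a ∧ τ.pt b = b := by
  classical
  obtain ⟨g, hgG, hg1, hg2⟩ := hG a b b a hab hab.symm
  have hg0 : orderOf g ≠ 0 := (orderOf_pos g).ne'
  have heven : 2 ∣ orderOf g := by
    by_contra hne
    rw [← even_iff_two_dvd, Nat.not_even_iff_odd] at hne
    obtain ⟨k, hk⟩ := hne
    have h2 : ∀ j : ℕ, (g ^ (2 * j)).pt a = a := by
      intro j
      induction j with
      | zero => rfl
      | succ j ih =>
        have e : g ^ (2 * (j + 1)) = g * g * g ^ (2 * j) := by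
          have e2 : 2 * (j + 1) = 2 + 2 * j := by ring
          rw [e2, pow_add, pow_two]
        rw [e]
        show g.pt (g.pt ((g ^ (2 * j)).pt a)) = a
        rw [ih, hg1, hg2]
    have h3 : (g ^ (2 * k + 1)).pt a = b := by
      rw [pow_succ']
      show g.pt ((g ^ (2 * k)).pt a) = b
      rw [h2, hg1]
    rw [← hk, pow_orderOf_eq_one] at h3
    exact hab h3
  set σ := g ^ (orderOf g / 2) with hσ
  have hσ2 : orderOf σ = 2 := orderOf_pow_orderOf_div hg0 heven
  have hσG : σ ∈ G := G.pow_mem hgG _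
  obtain ⟨x, y, hxy, hx, hy⟩ := inv_two_fix hn σ hσ2
  obtain ⟨c, hcG, hc1, hc2⟩ := hG x y a b hxy hab
  refine ⟨c * σ * c⁻¹, G.mul_mem (G.mul_mem hcG hσG) (G.inv_mem hcG), ?_, ?_, ?_⟩
  · have := (MulAut.conj c).orderOf_eq σ
    rw [← hσ2, ← this]
    rfl
  · show c.pt (σ.pt (c.pt⁻¹ a)) = a
    rw [← hc1]
    simp [hx]
  · show c.pt (σ.pt (c.pt⁻¹ b)) = b
    rw [← hc2]
    simp [hy]

end Cfsg.Agent.Lib.OW.KeyAux
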