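import Cfsg.Agent.Lib.OW.Sub
import Cfsg.Agent.Lib.OW.Th2
import Cfsg.Agent.Lib.OW.EETT

/-!
# S3732 [O1]: `n = r^a` odd.  Skeleton by helper87; pieces [P1]..[P7] (first post wins on topic S3732), proofs in own files.

Paper.  `S` Sylow `r` fixes a flag `(p, l)`; `x` off `l`; `Y = S_x`.  `Y` is Sylow in `G_{x,p,l}` (`IsSyl.stab`).
* [P5] `Y = 1`: `|S| = n²`, `S` regular on points off `l` and on lines missing `p`.  `R = S_Q` (`Q ∈ l`, `Q ≠ p`), `|R| = n`, `z ∈ Z(R)`, `z ≠ 1`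
  fixes only points on `l`.  `#fixed lines = #fixed points ≥ 2` so `z` fixes a line `≠ l`; fixed lines `≠ l` are concurrent at `y ∈ l`, `R` fixes `y`.
  Pick `a ∈ {p, Q}`, `a ≠ y`.  `R` is Sylow in `G_{a,y}` (`IsSyl.stab`), which is transitive on the `n` lines through `y` other than `l`
  ([P1]), so `R` is transitive on them (`IsSyl.trans`), regular as `|R| = n`: `z` fixes none of them.  Contradiction.
* [P6] `Y ≠ 1`, `Y` fixes `u` off the line `xp`.  `Fix(Y)` has a quadrangle (fixed lines through a fixed point and fixed points on a fixed line are `≡ 1 mod r`), so a proper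
  subplane of order `n₀`, `r ∣ n₀`.  `N_G(Y)` is transitive on triples `(a,b,m)` (`b ∈ m`, `a ∉ m`) in `Fix(Y)`: `Y`, `Y^g` are Sylow in `G_τ'`, conjugate there.  So the induced group is 2-transitive;
  IH: a nontrivial elation; `th2_primePow`: `n₀` is a power of `r`; an elation is semiregular on the `n₀` points `≠ c` of a line through `c` off the axis, so has `r`-power order.  It fixes a triple
  `(a', c, m')`, conjugate to `(x, p, l)`.  Its lift (`r`-part) is an `r`-element of `N(Y) ∩ G_τ` outside `Y`: contradiction with `Y` Sylow.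
* [P7] `Fix(Y) ⊆ xp`.  `z ∈ Z(S)` of order `r`: `Y` fixes `z(x)` so `z(x) ∈ xp`, `z` fixes `xp`; `S` transitive on lines through `p` other than `l`, `z` central: centre `p`; axis `A` (`exists_axis`).
  `p ∉ A` would give `r ∣ n - 1` (semiregular on `m \ {p, m ∩ A}`), so `z` is an elation.
-/

set_option autoImplicit false
set_option linter.unusedVariables false
set_option linter.unusedSectionVars false

namespace Cfsg.Agent.Lib.OW.OP

open Configuration

universe u v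

variable {P : Type u} {L : Type v} [Membership P L]

/-- Elements of `G` fixing the points of `A` and the lines of `B`. -/
def Gf (G : Subgroup (Coll P L)) (A : Set P) (B : Set L) : Subgroup (Coll P L) where
  carrier := {g | g ∈ G ∧ (∀ a ∈ A, g.pt a = a) ∧ ∀ b ∈ B, g.ln b = b}
  one_mem' := ⟨G.one_mem, fun _ _ => rfl, fun _ _ => rfl⟩
  mul_mem' := by
    rintro g h ⟨hg, ha, hb⟩ ⟨hg', ha', hb'⟩
    refine ⟨G.mul_mem hg hg', fun a hA => ?_, fun b hB => ?_⟩
    · show g.pt (h.pt a) = a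
      rw [ha' a hA, ha a hA]
    · show g.ln (h.ln b) = b
      rw [hb' b hB, hb b hB]
  inv_mem' := by
    rintro g ⟨hg, ha, hb⟩
    refine ⟨G.inv_mem hg, fun a hA => ?_, fun b hB => ?_⟩
    · show g.pt⁻¹ a = a
      rw [Equiv.Perm.inv_eq_iff_eq]; exact (ha a hA).symm
    · show g.ln⁻¹ b = b
      rw [Equiv.Perm.inv_eq_iff_eq]; exact (hb b hB).symm

lemma mem_Gf {G : Subgroup (Coll P L)} {A : Set P} {B : Set L} {g : Coll P L} :
    g ∈ Gf G A B ↔ g ∈ G ∧ (∀ a ∈ A, g.pt a = a) ∧ ∀ b ∈ B, g.ln b = b := Iff.rfl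

/-- `S` is a Sylow `r`-subgroup of `K`. -/
structure IsSyl (r : ℕ) (S K : Subgroup (Coll P L)) : Prop where
  le : S ≤ K
  pg : IsPGroup r S
  idx : ¬ r ∣ S.relIndex K

/-- Points. -/
def ptHom : Coll P L →* Equiv.Perm P := ⟨⟨Coll.pt, rfl⟩, fun _ _ => rfl⟩
/-- Lines. -/
def lnHom : Coll P L →* Equiv.Perm L := ⟨⟨Coll.ln, rfl⟩, fun _ _ => rfl⟩

/-- The stabilizer of a point of an action. -/
def Fx {X : Type*} (f : Coll P L →* Equiv.Perm X) (w : X) : Subgroup (Coll P L) where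
  carrier := {g | f g w = w}
  one_mem' := by simp
  mul_mem' := by
    intro g h hg hh
    show f (g * h) w = w
    rw [map_mul, Equiv.Perm.mul_apply, hh, hg]
  inv_mem' := by
    intro g hg
    show f g⁻¹ w = w
    rw [map_inv, Equiv.Perm.inv_eq_iff_eq]; exact hg.symm

variable [Fintype P] [Fintype L]

lemma relIndex_eq_orbit {X : Type*} [Finite X] (f : Coll P L →* Equiv.Perm X) (H : Subgroup (Coll P L)) (w : X) :
    (H ⊓ Fx f w).relIndex H = Set.ncard {y | ∃ h ∈ H, f h w = y} := by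
  letI : MulAction H X := MulAction.compHom X (f.comp H.subtype)
  have h1 : MulAction.stabilizer H w = (Fx f w).subgroupOf H := by
    ext h
    rfl
  have h2 := MulAction.index_stabilizer H w
  have h3 : MulAction.orbit H w = {y | ∃ h ∈ H, f h w = y} := by
    ext y
    constructor
    · rintro ⟨h, rfl⟩
      exact ⟨h.1, h.2, rfl⟩
    · rintro ⟨h, hh, rfl⟩
      exact ⟨⟨h, hh⟩, rfl⟩
  rw [h3, h1] at h2
  rw [← h2, Subgroup.relIndex, Subgroup.inf_subgroupOf_left]

/-- The core computation. -/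
lemma core {X : Type*} [Finite X] (f : Coll P L →* Equiv.Perm X) {r b : ℕ} [hr : Fact r.Prime] {S K : Subgroup (Coll P L)}
    (h : IsSyl r S K) (Ω : Set X) (hinv : ∀ k ∈ K, ∀ p ∈ Ω, f k p ∈ Ω) (htr : ∀ p ∈ Ω, ∀ q ∈ Ω, ∃ k ∈ K, f k p = q)
    (hc : Nat.card Ω = r ^ b) {w : X} (hw : w ∈ Ω) :
    {y | ∃ s ∈ S, f s w = y} = Ω ∧ S.relIndex K = (S ⊓ Fx f w).relIndex (K ⊓ Fx f w) := by
  have hc' : Ω.ncard = r ^ b := by rw [← Nat.card_coe_set_eq]; exact hc
  have hKorb : {y | ∃ k ∈ K, f k w = y} = Ω := by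
    ext y
    constructor
    · rintro ⟨k, hk, rfl⟩
      exact hinv k hk w hw
    · intro hy
      exact htr w hw y hy
  have hSsub : {y | ∃ s ∈ S, f s w = y} ⊆ Ω := by
    rintro y ⟨s, hs, rfl⟩
    exact hinv s (h.le hs) w hw
  have hA : (K ⊓ Fx f w).relIndex K = r ^ b := by
    rw [relIndex_eq_orbit, hKorb, hc']
  have hle1 : S ⊓ Fx f w ≤ S := inf_le_left
  have hle2 : S ⊓ Fx f w ≤ K ⊓ Fx f w := inf_le_inf_right _ h.le
  have hle3 : K ⊓ Fx f w ≤ K := inf_le_left
  have e1 := Subgroup.relIndex_mul_relIndex _ _ _ hle1 h.le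
  have e2 := Subgroup.relIndex_mul_relIndex _ _ _ hle2 hle3
  rw [hA] at e2
  have hcop : Nat.Coprime (r ^ b) (S.relIndex K) :=
    Nat.Coprime.pow_left b ((Nat.Prime.coprime_iff_not_dvd hr.out).2 h.idx)
  have hdvd : r ^ b ∣ (S ⊓ Fx f w).relIndex S := by
    apply hcop.dvd_of_dvd_mul_right
    rw [e1, ← e2]
    exact dvd_mul_left _ _
  have horb : (S ⊓ Fx f w).relIndex S = Set.ncard {y | ∃ s ∈ S, f s w = y} := relIndex_eq_orbit f S w
  have hle : Set.ncard {y | ∃ s ∈ S, f s w = y} ≤ r ^ b := by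
    rw [← hc']
    exact Set.ncard_le_ncard hSsub (Set.toFinite _)
  have hpos : 0 < (S ⊓ Fx f w).relIndex S := by
    rw [horb]
    rw [Set.ncard_pos (Set.toFinite _)]
    exact ⟨w, 1, S.one_mem, by simp⟩
  have heq : (S ⊓ Fx f w).relIndex S = r ^ b := by
    apply le_antisymm
    · rw [horb]; exact hle
    · exact Nat.le_of_dvd hpos hdvd
  constructor
  · apply Set.eq_of_subset_of_ncard_le hSsub _ (Set.toFinite _)
    rw [hc', ← horb, heq]
  · rw [heq] at e1
    have hrb : 0 < r ^ b := pow_pos hr.out.pos b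
    have e3 : r ^ b * S.relIndex K = (S ⊓ Fx f w).relIndex (K ⊓ Fx f w) * r ^ b := by rw [e1, e2]
    have e4 : r ^ b * S.relIndex K = r ^ b * (S ⊓ Fx f w).relIndex (K ⊓ Fx f w) := by rw [e3, mul_comm]
    exact Nat.eq_of_mul_eq_mul_left hrb e4

/-- [F1] A Sylow subgroup is transitive on an orbit of `r`-power length. -/
theorem IsSyl.trans {X : Type*} [Finite X] (f : Coll P L →* Equiv.Perm X) {r b : ℕ} [Fact r.Prime] {S K : Subgroup (Coll P L)}
    (h : IsSyl r S K) (Ω : Set X) (hinv : ∀ k ∈ K, ∀ p ∈ Ω, f k p ∈ Ω) (htr : ∀ p ∈ Ω, ∀ q ∈ Ω, ∃ k ∈ K, f k p = q)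
    (hc : Nat.card Ω = r ^ b) : ∀ p ∈ Ω, ∀ q ∈ Ω, ∃ s ∈ S, f s p = q := by
  intro p hp q hq
  have := (core f h Ω hinv htr hc hp).1
  rw [← this] at hq
  exact hq

/-- [F2] The stabilizer in a Sylow subgroup is Sylow in the stabilizer. -/
theorem IsSyl.stab {X : Type*} [Finite X] (f : Coll P L →* Equiv.Perm X) {r b : ℕ} [Fact r.Prime] {S K : Subgroup (Coll P L)}
    (h : IsSyl r S K) (Ω : Set X) (hinv : ∀ k ∈ K, ∀ p ∈ Ω, f k p ∈ Ω) (htr : ∀ p ∈ Ω, ∀ q ∈ Ω, ∃ k ∈ K, f k p = q)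
    (hc : Nat.card Ω = r ^ b) {w : X} (hw : w ∈ Ω) : IsSyl r (S ⊓ Fx f w) (K ⊓ Fx f w) := by
  refine ⟨inf_le_inf_right _ h.le, h.pg.to_le inf_le_left, ?_⟩
  rw [← (core f h Ω hinv htr hc hw).2]
  exact h.idx

/-- [F3] No `r`-group strictly between. -/
theorem IsSyl.eq_of_le {r : ℕ} [Fact r.Prime] {S K Q : Subgroup (Coll P L)} (h : IsSyl r S K) (hQ : Q ≤ K) (hp : IsPGroup r Q)
    (hSQ : S ≤ Q) : Q = S := by
  have e := Subgroup.relIndex_mul_relIndex _ _ _ hSQ hQ
  obtain ⟨n, hn⟩ := hp.index (S.subgroupOf Q)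
  have hn' : S.relIndex Q = r ^ n := hn
  have h1 : S.relIndex Q = 1 := by
    by_contra hne
    have hn0 : n ≠ 0 := by
      rintro rfl
      exact hne (by rw [hn', pow_zero])
    apply h.idx
    rw [← e, hn']
    exact Dvd.dvd.mul_right (dvd_pow_self r hn0) _
  exact le_antisymm (Subgroup.relIndex_eq_one.1 h1) hSQ

variable [ProjectivePlane P L]

/-- Core of [P1]: the stabilizer of an antiflag `(a, m)` is transitive on `m`. -/
theorem tri_core {G : Subgroup (Coll P L)} (hG : TwoTrans G) {a b : P} {m : L} (hab : a ≠ b)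
    (hb : b ∈ m) (ha : a ∉ m) {b'' : P} (hb'' : b'' ∈ m) :
    ∃ g ∈ G, g.pt a = a ∧ g.pt b = b'' ∧ g.ln m = m := by
  classical
  set n := ProjectivePlane.order P L with hn
  have hn0 : 0 < n := by
    have := ProjectivePlane.one_lt_order P L
    omega
  let Ω : Finset (P × L) :=
    Finset.univ.filter (fun q => ∃ g ∈ G, g.pt a = a ∧ g.pt b = q.1 ∧ g.ln m = q.2)
  have hΩ : ∀ q : P × L, q ∈ Ω ↔ ∃ g ∈ G, g.pt a = a ∧ g.pt b = q.1 ∧ g.ln m = q.2 := by
    intro q; simp [Ω]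
  let LM : Finset L := Finset.univ.filter (fun l => ¬ a ∈ l)
  let PN : Finset P := Finset.univ.filter (fun p => ¬ p = a)
  have hLM : LM.card = n ^ 2 := by
    have h1 : (Finset.univ.filter (fun l : L => a ∈ l)).card +
        (Finset.univ.filter (fun l : L => ¬ a ∈ l)).card = Fintype.card L := by
      rw [← Finset.card_univ]
      exact Finset.card_filter_add_card_filter_not _
    have h2 : (Finset.univ.filter (fun l : L => a ∈ l)).card = n + 1 := by
      have h3 := ProjectivePlane.lineCount_eq (L := L) (P := P) a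
      rw [lineCount, Nat.card_eq_fintype_card, Fintype.card_subtype] at h3
      exact h3
    have h4 : Fintype.card L = n ^ 2 + n + 1 := ProjectivePlane.card_lines P L
    change (Finset.univ.filter (fun l => ¬ a ∈ l)).card = n ^ 2
    omega
  have hPN : PN.card = n ^ 2 + n := by
    have h1 : (Finset.univ.filter (fun p : P => p = a)).card +
        (Finset.univ.filter (fun p : P => ¬ p = a)).card = Fintype.card P := by
      rw [← Finset.card_univ]
      exact Finset.card_filter_add_card_filter_not _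
    have h2 : (Finset.univ.filter (fun p : P => p = a)).card = 1 :=
      Finset.card_eq_one.2 ⟨a, by ext p; simp⟩
    have h4 : Fintype.card P = n ^ 2 + n + 1 := ProjectivePlane.card_points P L
    change (Finset.univ.filter (fun p => ¬ p = a)).card = n ^ 2 + n
    omega
  have hmaps2 : ∀ q ∈ Ω, q.2 ∈ LM := by
    intro q hq
    obtain ⟨g, -, hga, -, hgm⟩ := (hΩ q).1 hq
    simp only [LM, Finset.mem_filter, Finset.mem_univ, true_and]
    intro hc
    rw [← hgm, ← hga] at hc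
    exact ha ((g.inc a m).1 hc)
  have hmaps1 : ∀ q ∈ Ω, q.1 ∈ PN := by
    intro q hq
    obtain ⟨g, -, hga, hgb, -⟩ := (hΩ q).1 hq
    simp only [PN, Finset.mem_filter, Finset.mem_univ, true_and]
    intro hc
    rw [← hgb] at hc
    exact hab (g.pt.injective (hga.trans hc.symm))
  have hinc : ∀ q ∈ Ω, q.1 ∈ q.2 := by
    intro q hq
    obtain ⟨g, -, -, hgb, hgm⟩ := (hΩ q).1 hq
    rw [← hgb, ← hgm]
    exact (g.inc b m).2 hb
  have hF1 : ∀ l1 l2 : L, a ∉ l1 → a ∉ l2 →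
      (Ω.filter (fun q => q.2 = l1)).card ≤ (Ω.filter (fun q => q.2 = l2)).card := by
    intro l1 l2 h1 h2
    obtain ⟨h, hh, hha, hhl⟩ := antiflag_trans hG a a l1 l2 h1 h2
    refine Finset.card_le_card_of_injOn (fun q => (h.pt q.1, h.ln q.2)) ?_ ?_
    · intro q hq
      rw [Finset.mem_coe, Finset.mem_filter] at hq ⊢
      obtain ⟨hq1, hq2⟩ := hq
      obtain ⟨g, hg, hga, hgb, hgm⟩ := (hΩ q).1 hq1
      refine ⟨(hΩ _).2 ⟨h * g, G.mul_mem hh hg, ?_, ?_, ?_⟩, ?_⟩
      · change h.pt (g.pt a) = a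
        rw [hga, hha]
      · change h.pt (g.pt b) = h.pt q.1
        rw [hgb]
      · change h.ln (g.ln m) = h.ln q.2
        rw [hgm]
      · change h.ln q.2 = l2
        rw [hq2, hhl]
    · intro q _ q' _ e
      have e1 := congrArg Prod.fst e
      have e2 := congrArg Prod.snd e
      exact Prod.ext (h.pt.injective e1) (h.ln.injective e2)
  have hF2 : ∀ p1 p2 : P, p1 ≠ a → p2 ≠ a →
      (Ω.filter (fun q => q.1 = p1)).card ≤ (Ω.filter (fun q => q.1 = p2)).card := by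
    intro p1 p2 h1 h2
    obtain ⟨h, hh, hha, hhp⟩ := hG a p1 a p2 h1.symm h2.symm
    refine Finset.card_le_card_of_injOn (fun q => (h.pt q.1, h.ln q.2)) ?_ ?_
    · intro q hq
      rw [Finset.mem_coe, Finset.mem_filter] at hq ⊢
      obtain ⟨hq1, hq2⟩ := hq
      obtain ⟨g, hg, hga, hgb, hgm⟩ := (hΩ q).1 hq1
      refine ⟨(hΩ _).2 ⟨h * g, G.mul_mem hh hg, ?_, ?_, ?_⟩, ?_⟩
      · change h.pt (g.pt a) = a
        rw [hga, hha]
      · change h.pt (g.pt b) = h.pt q.1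
        rw [hgb]
      · change h.ln (g.ln m) = h.ln q.2
        rw [hgm]
      · change h.pt q.1 = p2
        rw [hq2, hhp]
    · intro q _ q' _ e
      have e1 := congrArg Prod.fst e
      have e2 := congrArg Prod.snd e
      exact Prod.ext (h.pt.injective e1) (h.ln.injective e2)
  have c1 : Ω.card = n ^ 2 * (Ω.filter (fun q => q.2 = m)).card := by
    rw [Finset.card_eq_sum_card_fiberwise (f := Prod.snd) (t := LM) hmaps2]
    rw [Finset.sum_congr rfl (fun l hl => le_antisymm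
      (hF1 l m (by simpa [LM] using hl) ha) (hF1 m l ha (by simpa [LM] using hl)))]
    rw [Finset.sum_const, smul_eq_mul, hLM]
  have c2 : Ω.card = (n ^ 2 + n) * (Ω.filter (fun q => q.1 = b)).card := by
    rw [Finset.card_eq_sum_card_fiberwise (f := Prod.fst) (t := PN) hmaps1]
    rw [Finset.sum_congr rfl (fun p hp => le_antisymm
      (hF2 p b (by simpa [PN] using hp) (Ne.symm hab)) (hF2 b p (Ne.symm hab) (by simpa [PN] using hp)))]
    rw [Finset.sum_const, smul_eq_mul, hPN]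
  set x := (Ω.filter (fun q => q.2 = m)).card with hx
  set y := (Ω.filter (fun q => q.1 = b)).card with hy
  have c3 : n * x = (n + 1) * y := by
    apply Nat.eq_of_mul_eq_mul_left hn0
    calc n * (n * x) = n ^ 2 * x := by ring
      _ = (n ^ 2 + n) * y := by rw [← c1, c2]
      _ = n * ((n + 1) * y) := by ring
  have c4 : (n + 1) ∣ x := by
    have hcop : Nat.Coprime (n + 1) n := by simp
    exact hcop.dvd_of_dvd_mul_left ⟨y, c3⟩
  have hself : (b, m) ∈ Ω.filter (fun q => q.2 = m) :=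
    Finset.mem_filter.2 ⟨(hΩ _).2 ⟨1, G.one_mem, rfl, rfl, rfl⟩, rfl⟩
  have hxpos : 0 < x := Finset.card_pos.2 ⟨_, hself⟩
  have hxge : n + 1 ≤ x := Nat.le_of_dvd hxpos c4
  let T : Finset P := Finset.univ.filter (fun p => p ∈ m)
  have hT : T.card = n + 1 := by
    have h3 := ProjectivePlane.pointCount_eq (L := L) (P := P) m
    rw [pointCount, Nat.card_eq_fintype_card, Fintype.card_subtype] at h3
    exact h3
  have himg : (Ω.filter (fun q => q.2 = m)).image Prod.fst ⊆ T := by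
    intro p hp
    obtain ⟨q, hq, rfl⟩ := Finset.mem_image.1 hp
    rw [Finset.mem_filter] at hq
    have := hinc q hq.1
    rw [hq.2] at this
    simpa [T] using this
  have himgcard : ((Ω.filter (fun q => q.2 = m)).image Prod.fst).card = x := by
    apply Finset.card_image_of_injOn
    intro q hq q' hq' e
    have h1 := (Finset.mem_filter.1 hq).2
    have h2 := (Finset.mem_filter.1 hq').2
    exact Prod.ext e (h1.trans h2.symm)
  have heq : (Ω.filter (fun q => q.2 = m)).image Prod.fst = T :=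
    Finset.eq_of_subset_of_card_le himg (by rw [himgcard, hT]; exact hxge)
  have hmem : b'' ∈ T := by simpa [T] using hb''
  rw [← heq] at hmem
  obtain ⟨q, hq, rfl⟩ := Finset.mem_image.1 hmem
  rw [Finset.mem_filter] at hq
  obtain ⟨g, hg, hga, hgb, hgm⟩ := (hΩ q).1 hq.1
  exact ⟨g, hg, hga, hgb, hgm.trans hq.2⟩

/-- [P1] `G` is transitive on triples `(a, b, m)`, `b ∈ m`, `a ∉ m`.  Paper: `T = G_{a,b,m}`; `|G_a| = n² |G_{a,m}| = n (n+1) |G_{a,b}|` (`antiflag_trans`, `TwoTrans`) so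
`n |G_{a,m} : T| = (n+1) |G_{a,b} : T|`, so `(n+1) ∣ |G_{a,m} : T| ≤ n + 1`: `G_{a,m}` is transitive on `m`. -/
theorem tri_trans {G : Subgroup (Coll P L)} (hG : TwoTrans G) {a b a' b' : P} {m m' : L} (hab : a ≠ b) (hb : b ∈ m) (ha : a ∉ m)
    (hab' : a' ≠ b') (hb' : b' ∈ m') (ha' : a' ∉ m') : ∃ g ∈ G, g.pt a = a' ∧ g.pt b = b' ∧ g.ln m = m' := by
  obtain ⟨g, hg, hga, hgm⟩ := antiflag_trans hG a a' m m' ha ha'
  have hgb : g.pt b ∈ m' := by
    rw [← hgm]; exact (g.inc b m).2 hb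
  have hne : a' ≠ g.pt b := fun e => ha' (e ▸ hgb)
  obtain ⟨h, hh, hha, hhb, hhm⟩ := tri_core hG hne hgb ha' hb'
  refine ⟨h * g, G.mul_mem hh hg, ?_, ?_, ?_⟩
  · change h.pt (g.pt a) = a'
    rw [hga, hha]
  · change h.pt (g.pt b) = b'
    exact hhb
  · change h.ln (g.ln m) = m'
    rw [hgm, hhm]

/-- A `r`-group acting on a set of size prime to `r` has a fixed point. -/
theorem p2_exists_fix {H : Type*} [Group H] {r : ℕ} [Fact r.Prime] (hH : IsPGroup r H) {X : Type*} [Finite X]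
    (f : H →* Equiv.Perm X) (hX : ¬ r ∣ Nat.card X) : ∃ x, ∀ h, f h x = x := by
  let _ : MulAction H X := MulAction.compHom X f
  have hm := hH.card_modEq_card_fixedPoints X
  by_cases hc : Nat.card (MulAction.fixedPoints H X) = 0
  · exfalso
    rw [hc] at hm
    exact hX ((Nat.modEq_zero_iff_dvd).1 hm)
  · have : Nonempty (MulAction.fixedPoints H X) := by
      have : Nat.card (MulAction.fixedPoints H X) ≠ 0 := hc
      exact (Nat.card_pos_iff.1 (Nat.pos_of_ne_zero this)).1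
    obtain ⟨⟨x, hx⟩⟩ := this
    exact ⟨x, fun h => hx h⟩

/-- [P2] A Sylow `r`-subgroup of `G` fixing a flag.  Paper: `r ∣ n`; `|P| ≡ 1`, and `≡ 1` lines through a point, mod `r` (`IsPGroup.card_modEq_card_fixedPoints`); `Sylow r G` mapped to `Coll`. -/
theorem exists_syl_flag {G : Subgroup (Coll P L)} {r : ℕ} [Fact r.Prime] (hr : r ∣ ProjectivePlane.order P L) :
    ∃ (S : Subgroup (Coll P L)) (p : P) (l : L), IsSyl r S G ∧ p ∈ l ∧ ∀ s ∈ S, s.pt p = p ∧ s.ln l = l := by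
  classical
  have hfin : Finite (Coll P L) := inferInstance
  have hrp : r.Prime := Fact.out
  have h1 : ¬ r ∣ 1 := fun h => hrp.one_lt.ne' (Nat.dvd_one.1 h)
  obtain ⟨Q⟩ : Nonempty (Sylow r G) := inferInstance
  let S : Subgroup (Coll P L) := (Q : Subgroup G).map G.subtype
  have hSG : S ≤ G := Subgroup.map_subtype_le _
  have hQS : (Q : Subgroup G) ≃* S := (Q : Subgroup G).equivMapOfInjective G.subtype G.subtype_injective
  have hpg : IsPGroup r S := by
    have hq : IsPGroup r (Q : Subgroup G) := Q.isPGroup'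
    exact hq.of_equiv hQS
  have hidx : ¬ r ∣ S.relIndex G := by
    have : S.subgroupOf G = (Q : Subgroup G) := by
      exact Subgroup.comap_map_eq_self_of_injective G.subtype_injective _
    rw [Subgroup.relIndex, this]
    exact Q.not_dvd_index
  -- the fixed point
  let f : S →* Equiv.Perm P :=
    { toFun := fun s => (s : Coll P L).pt
      map_one' := rfl
      map_mul' := fun _ _ => rfl }
  have hcardP : ¬ r ∣ Nat.card P := by
    rw [Nat.card_eq_fintype_card, ProjectivePlane.card_points P L]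
    intro h
    apply h1
    have h2 : r ∣ ProjectivePlane.order P L ^ 2 + ProjectivePlane.order P L :=
      dvd_add (dvd_pow hr two_ne_zero) hr
    exact (Nat.dvd_add_right h2).1 h
  obtain ⟨p, hp⟩ := p2_exists_fix hpg f hcardP
  have hp' : ∀ s : S, (s : Coll P L).pt p = p := hp
  -- the fixed line
  let f' : S →* Equiv.Perm {l : L // p ∈ l} :=
    { toFun := fun s => Equiv.Perm.subtypePerm (s : Coll P L).ln (fun x => by
        have := (s : Coll P L).inc p x
        rw [hp' s] at this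
        simpa using this)
      map_one' := by ext x; rfl
      map_mul' := fun a b => by ext x; rfl }
  have hcardL : ¬ r ∣ Nat.card {l : L // p ∈ l} := by
    have : Nat.card {l : L // p ∈ l} = ProjectivePlane.order P L + 1 := ProjectivePlane.lineCount_eq L p
    rw [this]
    intro h
    exact h1 ((Nat.dvd_add_right hr).1 h)
  obtain ⟨⟨l, hl⟩, hl'⟩ := p2_exists_fix hpg f' hcardL
  refine ⟨S, p, l, ⟨hSG, hpg, hidx⟩, hl, fun s hs => ⟨hp' ⟨s, hs⟩, ?_⟩⟩
  have := hl' ⟨s, hs⟩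
  exact congrArg Subtype.val this

/-- `S` is transitive on the points off `l`. -/
theorem trans_off {G S : Subgroup (Coll P L)} (hG : TwoTrans G) {r a : ℕ} [Fact r.Prime] (hn : ProjectivePlane.order P L = r ^ a)
    {p : P} {l : L} (hS : IsSyl r S G) (hpl : p ∈ l) (hfix : ∀ s ∈ S, s.pt p = p ∧ s.ln l = l)
    {x x' : P} (hx : x ∉ l) (hx' : x' ∉ l) : ∃ s ∈ S, s.pt x = x' := by
  have hKG : G ⊓ Fx (lnHom : Coll P L →* Equiv.Perm L) l ≤ G := inf_le_left
  have hSK : S ≤ G ⊓ Fx (lnHom : Coll P L →* Equiv.Perm L) l := fun s hs => ⟨hS.le hs, (hfix s hs).2⟩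
  have hSyl : IsSyl r S (G ⊓ Fx (lnHom : Coll P L →* Equiv.Perm L) l) := by
    refine ⟨hSK, hS.pg, fun hd => hS.idx ?_⟩
    rw [← Subgroup.relIndex_mul_relIndex S _ G hSK hKG]
    exact Dvd.dvd.mul_right hd _
  have hmain := IsSyl.trans (X := P) (ptHom : Coll P L →* Equiv.Perm P) (r := r) (b := 2 * a) hSyl {y : P | y ∉ l}
    (by
      rintro k ⟨-, hk⟩ y hy hy'
      have hk' : k.ln l = l := hk
      apply hy
      have h1 : k.pt y ∈ k.ln l := by rw [hk']; exact hy'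
      exact (k.inc y l).1 h1)
    (by
      intro y hy y' hy'
      obtain ⟨g, hg, h1, h2⟩ := antiflag_trans hG y y' l l hy hy'
      exact ⟨g, ⟨hg, h2⟩, h1⟩)
    (by
      rw [Th2Aux.card_off l, hn, ← pow_mul, mul_comm]) x hx x' hx'
  exact hmain

/-- [P7] -/
theorem case_fix {G S : Subgroup (Coll P L)} (hG : TwoTrans G) {r a : ℕ} [Fact r.Prime] (hn : ProjectivePlane.order P L = r ^ a) (ha : 0 < a)
    {p x : P} {l : L} (hS : IsSyl r S G) (hpl : p ∈ l) (hfix : ∀ s ∈ S, s.pt p = p ∧ s.ln l = l) (hx : x ∉ l) (hxp : x ≠ p)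
    (hF : ∀ u : P, (∀ y ∈ Gf S {x} ∅, y.pt u = u) → u ∈ (HasLines.mkLine hxp : L)) : HasElation G := by
  classical
  have hrp : r.Prime := Fact.out
  obtain ⟨hxm, hpm⟩ := HasLines.mkLine_ax (L := L) hxp
  set m0 : L := HasLines.mkLine hxp with hm0
  have hoff : ∀ {w : P} {m : L}, p ∈ m → m ≠ l → w ∈ m → w ≠ p → w ∉ l := by
    intro w m hpm' hml hw hwp hwl
    rcases Nondegenerate.eq_or_eq hw hpm' hwl hpl with e | e
    · exact hwp e
    · exact hml e
  have hm0l : m0 ≠ l := fun e => hx (e ▸ hxm)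
  obtain ⟨w₀, hw₀, hw₀x, hw₀p⟩ := BasicsAux.exists_third m0 x p
  obtain ⟨s₀, hs₀, hs₀x⟩ := trans_off hG hn hS hpl hfix hx (hoff hpm hm0l hw₀ hw₀p)
  have hs₀1 : s₀ ≠ 1 := by
    rintro rfl
    exact hw₀x hs₀x.symm
  haveI : Nontrivial S := ⟨⟨⟨s₀, hs₀⟩, 1, fun e => hs₀1 (congrArg Subtype.val e)⟩⟩
  haveI : Finite S := inferInstance
  have hcn : Nontrivial (Subgroup.center S) := hS.pg.center_nontrivial
  have hcp : IsPGroup r (Subgroup.center S) := hS.pg.to_subgroup _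
  have hdvd : r ∣ Nat.card (Subgroup.center S) := by
    rcases hcp.card_eq_or_dvd with h1 | h1
    · exact absurd h1 (Finite.one_lt_card (α := Subgroup.center S)).ne'
    · exact h1
  obtain ⟨zc, hzc⟩ := exists_prime_orderOf_dvd_card' r hdvd
  set z : Coll P L := ((zc : S) : Coll P L) with hz
  have hzS : z ∈ S := (zc : S).2
  have hzr : orderOf z = r := by
    rw [hz, Subgroup.orderOf_coe, Subgroup.orderOf_coe]
    exact hzc
  have hz1 : z ≠ 1 := by
    intro e
    rw [e, orderOf_one] at hzr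
    exact hrp.one_lt.ne hzr
  have hcomm : ∀ s ∈ S, z * s = s * z := by
    intro s hs
    have := Subgroup.mem_center_iff.1 zc.2 ⟨s, hs⟩
    exact (congrArg Subtype.val this).symm
  obtain ⟨hzp, hzl⟩ := hfix z hzS
  have hzx : z.pt x ∈ m0 := by
    apply hF
    intro y hy
    obtain ⟨hyS, hyx, -⟩ := mem_Gf.1 hy
    calc y.pt (z.pt x) = (y * z).pt x := rfl
      _ = (z * y).pt x := by rw [hcomm y hyS]
      _ = z.pt (y.pt x) := rfl
      _ = z.pt x := by rw [hyx x rfl]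
  have hzxp : z.pt x ≠ p := by
    intro e
    apply hxp
    apply z.pt.injective
    rw [e, hzp]
  have hzm0 : z.ln m0 = m0 := by
    have h1 : z.pt x ∈ z.ln m0 := (z.inc x m0).2 hxm
    have h2 : p ∈ z.ln m0 := by
      have := (z.inc p m0).2 hpm
      rwa [hzp] at this
    exact (Nondegenerate.eq_or_eq h1 h2 hzx hpm).resolve_left hzxp
  have hzlines : ∀ m : L, p ∈ m → z.ln m = m := by
    intro m hpm'
    by_cases hml : m = l
    · rw [hml]
      exact hzl
    obtain ⟨w, hw, hwp, -⟩ := BasicsAux.exists_third m p p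
    obtain ⟨s, hs, hsx⟩ := trans_off hG hn hS hpl hfix hx (hoff hpm' hml hw hwp)
    have hsp := (hfix s hs).1
    have hsm : s.ln m0 = m := by
      have h1 : w ∈ s.ln m0 := by
        have := (s.inc x m0).2 hxm
        rwa [hsx] at this
      have h2 : p ∈ s.ln m0 := by
        have := (s.inc p m0).2 hpm
        rwa [hsp] at this
      exact (Nondegenerate.eq_or_eq h1 h2 hw hpm').resolve_left hwp
    rw [← hsm]
    show (z * s).ln m0 = s.ln m0
    rw [hcomm s hs]
    show s.ln (z.ln m0) = s.ln m0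
    rw [hzm0]
  obtain ⟨A, hA⟩ := exists_axis z p hzlines
  have hper : IsPersp z p A := ⟨hA, hzlines⟩
  refine ⟨z, hS.le hzS, p, A, hz1, ?_, hper⟩
  by_contra hpA
  have hm0A : m0 ≠ A := fun e => hpA (e ▸ hpm)
  obtain ⟨hd0, hdA⟩ := HasPoints.mkPoint_ax (P := P) hm0A
  set d : P := HasPoints.mkPoint hm0A with hd
  have hdp : d ≠ p := fun e => hpA (e ▸ hdA)
  let f : Function.End {w : P // w ∈ m0} := fun w => ⟨z.pt w.1, by
    have := (z.inc w.1 m0).2 w.2
    rwa [hzm0] at this⟩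
  have hfpow : ∀ (k : ℕ) (w : {w : P // w ∈ m0}), ((f ^ k) w).1 = (z ^ k).pt w.1 := by
    intro k
    induction k with
    | zero => intro w; rfl
    | succ k ih =>
      intro w
      rw [pow_succ, Function.End.mul_def]
      change ((f ^ k) (f w)).1 = _
      rw [ih, pow_succ]
      rfl
  have hfr : f ^ r ^ 1 = 1 := by
    funext w
    apply Subtype.ext
    have h1 : z ^ r = 1 := by
      conv_lhs => rw [← hzr]
      exact pow_orderOf_eq_one z
    rw [pow_one, hfpow, h1]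
    rfl
  have hmod := Equiv.Perm.card_fixedPoints_modEq hfr
  have hcardm : Fintype.card {w : P // w ∈ m0} = ProjectivePlane.order P L + 1 := by
    have := ProjectivePlane.pointCount_eq P m0
    rw [← this, ← Nat.card_eq_fintype_card]
    rfl
  have hfixcard : Fintype.card (Function.fixedPoints f) = 2 := by
    have hne : (⟨p, hpm⟩ : {w : P // w ∈ m0}) ≠ ⟨d, hd0⟩ := fun e => hdp (congrArg Subtype.val e).symm
    have h := Fintype.card_of_subtype (p := fun w => w ∈ Function.fixedPoints f)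
      ({⟨p, hpm⟩, ⟨d, hd0⟩} : Finset {w : P // w ∈ m0}) (by
      intro w
      simp only [Finset.mem_insert, Finset.mem_singleton]
      constructor
      · rintro (rfl | rfl)
        · exact Subtype.ext hzp
        · exact Subtype.ext (hA d hdA)
      · intro hw
        have hw' : z.pt w.1 = w.1 := congrArg Subtype.val hw
        by_cases hwp : w.1 = p
        · left
          exact Subtype.ext hwp
        · right
          have hwA := EETT.fix_pt_mem hz1 hper hw' hwp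
          rcases Nondegenerate.eq_or_eq w.2 hd0 hwA hdA with e | e
          · exact Subtype.ext e
          · exact absurd e hm0A)
    rw [Finset.card_pair hne] at h
    exact h
  rw [hcardm, hfixcard] at hmod
  have h1 := ProjectivePlane.one_lt_order P L
  have hdn : r ∣ ProjectivePlane.order P L := by
    rw [hn]
    exact dvd_pow_self r ha.ne'
  have h3 : r ∣ ProjectivePlane.order P L - 1 := by
    have := (Nat.modEq_iff_dvd' (by omega)).1 hmod.symm
    have e : ProjectivePlane.order P L + 1 - 2 = ProjectivePlane.order P L - 1 := by omega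
    rwa [e] at this
  have h4 : r ∣ 1 := by
    have := Nat.dvd_sub hdn h3
    have e : ProjectivePlane.order P L - (ProjectivePlane.order P L - 1) = 1 := by omega
    rwa [e] at this
  exact hrp.one_lt.ne' (Nat.dvd_one.1 h4)

namespace CaseOneAux

theorem card_orbit_stab {X : Type*} (f : Coll P L →* Equiv.Perm X) (S : Subgroup (Coll P L)) (Ω : Set X) {w : X} (hw : w ∈ Ω)
    (hinv : ∀ s ∈ S, ∀ q ∈ Ω, f s q ∈ Ω) (htr : ∀ q ∈ Ω, ∃ s ∈ S, f s w = q) :
    Nat.card S = Nat.card Ω * Nat.card ↥(S ⊓ Fx f w) := by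
  classical
  choose! c hcS hcw using htr
  let φ : Ω × ↥(S ⊓ Fx f w) → S := fun a => ⟨c a.1.1 * a.2.1, S.mul_mem (hcS _ a.1.2) a.2.2.1⟩
  have hφ : Function.Bijective φ := by
    constructor
    · rintro ⟨⟨q, hq⟩, ⟨t, ht⟩⟩ ⟨⟨q', hq'⟩, ⟨t', ht'⟩⟩ h
      have h' : c q * t = c q' * t' := congrArg Subtype.val h
      have h1 : f (c q * t) w = q := by
        rw [map_mul, Equiv.Perm.mul_apply, (show f t w = w from ht.2), hcw q hq]
      have h2 : f (c q' * t') w = q' := by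
        rw [map_mul, Equiv.Perm.mul_apply, (show f t' w = w from ht'.2), hcw q' hq']
      have hqq : q = q' := by rw [← h1, h', h2]
      subst hqq
      have : t = t' := mul_left_cancel h'
      subst this
      rfl
    · rintro ⟨s, hs⟩
      have hq : f s w ∈ Ω := hinv s hs w hw
      refine ⟨⟨⟨f s w, hq⟩, ⟨(c (f s w))⁻¹ * s, S.mul_mem (S.inv_mem (hcS _ hq)) hs, ?_⟩⟩, ?_⟩
      · show f ((c (f s w))⁻¹ * s) w = w
        rw [map_mul, map_inv, Equiv.Perm.mul_apply, Equiv.Perm.inv_eq_iff_eq, hcw _ hq]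
      · apply Subtype.ext
        show c (f s w) * ((c (f s w))⁻¹ * s) = s
        group
  rw [← Nat.card_eq_of_bijective φ hφ, Nat.card_prod]

theorem rel_card {H K : Subgroup (Coll P L)} (h : H ≤ K) : H.relIndex K * Nat.card H = Nat.card K := by
  have h1 := Subgroup.card_mul_index (H.subgroupOf K)
  rw [Nat.card_congr (Subgroup.subgroupOfEquivOfLe h).toEquiv] at h1
  rw [Subgroup.relIndex, mul_comm]
  exact h1

end CaseOneAux

/-- [P5] -/
theorem case_one {G S : Subgroup (Coll P L)} (hG : TwoTrans G) {r a : ℕ} [Fact r.Prime] (hn : ProjectivePlane.order P L = r ^ a) (ha : 0 < a)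
    {p x : P} {l : L} (hS : IsSyl r S G) (hpl : p ∈ l) (hfix : ∀ s ∈ S, s.pt p = p ∧ s.ln l = l) (hx : x ∉ l)
    (hY : Gf S {x} ∅ = ⊥) : False := by
  classical
  set n := ProjectivePlane.order P L with hndef
  have hn1 : 1 < n := ProjectivePlane.one_lt_order P L
  have hnpos : 0 < n := by omega
  have hcP : Nat.card P = n ^ 2 + n + 1 := by
    rw [Nat.card_eq_fintype_card]; exact ProjectivePlane.card_points P L
  have hoff : ∀ x', x' ∉ l → ∃ s ∈ S, s.pt x = x' := fun x' hx' => trans_off hG hn hS hpl hfix hx hx'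
  -- elements of `S` fix nothing off `l`
  have hA : ∀ s ∈ S, ∀ x', x' ∉ l → s.pt x' = x' → s = 1 := by
    intro s hs x' hx' hsx
    obtain ⟨t, ht, htx⟩ := hoff x' hx'
    have hmem : t⁻¹ * s * t ∈ Gf S {x} ∅ := by
      refine ⟨S.mul_mem (S.mul_mem (S.inv_mem ht) hs) ht, ?_, ?_⟩
      · intro b hb
        rw [Set.mem_singleton_iff] at hb
        subst hb
        show t.pt⁻¹ (s.pt (t.pt b)) = b
        rw [htx, hsx, ← htx]
        simp
      · intro b hb
        exact absurd hb (Set.notMem_empty _)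
    rw [hY, Subgroup.mem_bot] at hmem
    have h1 : s = t * (t⁻¹ * s * t) * t⁻¹ := by group
    rw [h1, hmem]
    simp
  -- order of `S`
  have hcoff : Nat.card ↥{q : P | q ∉ l} = n ^ 2 := by
    have h1 := Set.ncard_add_ncard_compl {q : P | q ∈ l}
    have h2 : {q : P | q ∈ l}.ncard = n + 1 := by
      have h3 := ProjectivePlane.pointCount_eq P l
      rw [pointCount] at h3
      rw [← Nat.card_coe_set_eq]
      exact h3
    have h4 : ({q : P | q ∈ l}ᶜ).ncard = Nat.card ↥{q : P | q ∉ l} := by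
      rw [← Nat.card_coe_set_eq]
      rfl
    rw [h2, h4, hcP] at h1
    omega
  have hSx : S ⊓ Fx ptHom x = ⊥ := by
    rw [Subgroup.eq_bot_iff_forall]
    rintro s ⟨hs, hsx⟩
    exact hA s hs x hx hsx
  have hcS : Nat.card S = n ^ 2 := by
    have h1 := CaseOneAux.card_orbit_stab (ptHom (P := P) (L := L)) S {q : P | q ∉ l} hx
      (by
        intro s hs q hq h
        exact hq (by
          have h2 := (s.inc q l).mp (by rw [(hfix s hs).2]; exact h)
          exact h2))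
      (fun q hq => hoff q hq)
    rw [hSx, hcoff, Subgroup.card_bot, mul_one] at h1
    exact h1
  -- `Q`
  obtain ⟨Q, hQl, hQp, -⟩ := BasicsAux.exists_third l p p
  -- `S` transitive on `l \ {p}`
  have hcΩ₁ : Nat.card ↥{q : P | q ∈ l ∧ q ≠ p} = n := by
    have h3 := ProjectivePlane.pointCount_eq P l
    rw [pointCount] at h3
    have h2 : {q : P | q ∈ l}.ncard = n + 1 := by
      rw [← Nat.card_coe_set_eq]
      exact h3
    have h5 : {q : P | q ∈ l ∧ q ≠ p} = {q : P | q ∈ l} \ {p} := by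
      ext q; simp
    rw [Nat.card_coe_set_eq, h5, Set.ncard_diff_singleton_of_mem (by exact hpl), h2]
    simp
  have hlfix : ∀ g : Coll P L, g.pt p = p → ∀ q, q ∈ l → q ≠ p → g.pt q ∈ l → g.ln l = l := by
    intro g hgp q hq hqp hgq
    have h1 : g.pt p ∈ g.ln l := (g.inc p l).mpr hpl
    have h2 : g.pt q ∈ g.ln l := (g.inc q l).mpr hq
    rw [hgp] at h1
    have hne : g.pt q ≠ p := by
      intro h
      apply hqp
      apply g.pt.injective
      rw [h, hgp]
    exact (Nondegenerate.eq_or_eq h2 h1 hgq hpl).resolve_left hne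
  have hS1 : IsSyl r S (Gf G {p} {l}) := by
    refine ⟨fun s hs => ⟨hS.le hs, ?_, ?_⟩, hS.pg, ?_⟩
    · intro b hb
      rw [Set.mem_singleton_iff] at hb
      subst hb
      exact (hfix s hs).1
    · intro b hb
      rw [Set.mem_singleton_iff] at hb
      subst hb
      exact (hfix s hs).2
    · intro hdvd
      apply hS.idx
      have hle : S ≤ Gf G {p} {l} := fun s hs => ⟨hS.le hs, fun b hb => by
        rw [Set.mem_singleton_iff] at hb; subst hb; exact (hfix s hs).1, fun b hb => by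
        rw [Set.mem_singleton_iff] at hb; subst hb; exact (hfix s hs).2⟩
      have hle2 : Gf G {p} {l} ≤ G := fun g hg => hg.1
      rw [← Subgroup.relIndex_mul_relIndex S _ G hle hle2]
      exact hdvd.mul_right _
  have htr1 : ∀ q ∈ ({q : P | q ∈ l ∧ q ≠ p} : Set P), ∀ q' ∈ ({q : P | q ∈ l ∧ q ≠ p} : Set P), ∃ s ∈ S, ptHom (L := L) s q = q' := by
    apply IsSyl.trans (ptHom (P := P) (L := L)) (b := a) hS1 {q : P | q ∈ l ∧ q ≠ p}
    · rintro k ⟨-, hk1, hk2⟩ q ⟨hq, hqp⟩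
      have hkp : k.pt p = p := hk1 p rfl
      have hkl : k.ln l = l := hk2 l rfl
      refine ⟨?_, ?_⟩
      · have h1 := (k.inc q l).mpr hq
        rwa [hkl] at h1
      · intro h
        apply hqp
        apply k.pt.injective
        show k.pt q = k.pt p
        rw [hkp]
        exact h
    · rintro q ⟨hq, hqp⟩ q' ⟨hq', hqp'⟩
      obtain ⟨g, hg, hg1, hg2⟩ := hG p q p q' hqp.symm hqp'.symm
      refine ⟨g, ⟨hg, ?_, ?_⟩, hg2⟩
      · intro b hb
        rw [Set.mem_singleton_iff] at hb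
        subst hb
        exact hg1
      · intro b hb
        rw [Set.mem_singleton_iff] at hb
        subst hb
        exact hlfix g hg1 q hq hqp (by rw [hg2]; exact hq')
    · rw [hcΩ₁]
      exact hn
  -- `R`
  set R : Subgroup (Coll P L) := S ⊓ Fx ptHom Q with hRdef
  have hcR : Nat.card R = n := by
    have h1 := CaseOneAux.card_orbit_stab (ptHom (P := P) (L := L)) S {q : P | q ∈ l ∧ q ≠ p} (w := Q) ⟨hQl, hQp⟩
      (by
        rintro s hs q ⟨hq, hqp⟩
        refine ⟨?_, ?_⟩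
        · have h2 := (s.inc q l).mpr hq
          rw [(hfix s hs).2] at h2
          exact h2
        · intro h
          apply hqp
          apply s.pt.injective
          show s.pt q = s.pt p
          rw [(hfix s hs).1]
          exact h)
      (fun q hq => htr1 Q ⟨hQl, hQp⟩ q hq)
    rw [hcS, hcΩ₁] at h1
    have h2 : n * n = n * Nat.card R := by
      rw [← h1]; ring
    exact (Nat.eq_of_mul_eq_mul_left hnpos h2).symm
  have hRS : R ≤ S := inf_le_left
  have hRp : IsPGroup r R := hS.pg.to_le hRS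
  haveI : Nontrivial R := by
    rw [← Finite.one_lt_card_iff_nontrivial, hcR]
    exact hn1
  haveI := hRp.center_nontrivial
  obtain ⟨⟨⟨z, hzR⟩, hzc⟩, hz1⟩ := exists_ne (1 : Subgroup.center ↥R)
  have hz1' : z ≠ 1 := by
    intro h
    apply hz1
    apply Subtype.ext
    apply Subtype.ext
    exact h
  have hzcomm : ∀ ρ ∈ R, ρ * z = z * ρ := by
    intro ρ hρ
    have h1 := (Subgroup.mem_center_iff.mp hzc) ⟨ρ, hρ⟩
    exact congrArg Subtype.val h1
  have hzS : z ∈ S := hRS hzR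
  have hzp : z.pt p = p := (hfix z hzS).1
  have hzl : z.ln l = l := (hfix z hzS).2
  have hzQ : z.pt Q = Q := hzR.2
  -- a second fixed line
  obtain ⟨m, hzm, hml⟩ : ∃ m : L, z.ln m = m ∧ m ≠ l := by
    have h1 : 1 < Nat.card {q : P // z.pt q = q} := by
      rw [Finite.one_lt_card_iff_nontrivial]
      exact ⟨⟨⟨p, hzp⟩, ⟨Q, hzQ⟩, fun h => hQp (congrArg Subtype.val h).symm⟩⟩
    rw [card_fix_eq z, Finite.one_lt_card_iff_nontrivial] at h1
    obtain ⟨⟨m, hm⟩, hne⟩ := exists_ne (⟨l, hzl⟩ : {m : L // z.ln m = m})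
    exact ⟨m, hm, fun h => hne (Subtype.ext h)⟩
  have hlm : l ≠ m := hml.symm
  set y : P := HasPoints.mkPoint hlm with hydef
  have hyl : y ∈ l := (HasPoints.mkPoint_ax hlm).1
  have hym : y ∈ m := (HasPoints.mkPoint_ax hlm).2
  have hfl : ∀ m' : L, z.ln m' = m' → m' ≠ l → y ∈ m' := by
    intro m' hzm' hm'l
    by_cases hmm : m = m'
    · rw [← hmm]; exact hym
    · have hw := HasPoints.mkPoint_ax (P := P) hmm
      set w : P := HasPoints.mkPoint hmm
      have hzw : z.pt w = w := BasicsAux.pt_fix z hmm hw.1 hw.2 hzm hzm'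
      have hwl : w ∈ l := by
        by_contra h
        exact hz1' (hA z hzS w h hzw)
      have hwy : w = y := (Nondegenerate.eq_or_eq hwl hyl hw.1 hym).resolve_right hlm
      rw [← hwy]
      exact hw.2
  have hRy : ∀ ρ ∈ R, ρ.pt y = y := by
    intro ρ hρ
    have hρS := hRS hρ
    have h1 : z.ln (ρ.ln m) = ρ.ln m := by
      have h2 : (z * ρ).ln m = (ρ * z).ln m := by rw [hzcomm ρ hρ]
      show (z * ρ).ln m = ρ.ln m
      rw [h2]
      show ρ.ln (z.ln m) = ρ.ln m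
      rw [hzm]
    have h2 : ρ.ln m ≠ l := by
      intro h
      apply hml
      apply ρ.ln.injective
      rw [h, (hfix ρ hρS).2]
    have h3 := hfl _ h1 h2
    have h4 : ρ.pt y ∈ ρ.ln m := (ρ.inc y m).mpr hym
    have h5 : ρ.pt y ∈ l := by
      have h6 := (ρ.inc y l).mpr hyl
      rwa [(hfix ρ hρS).2] at h6
    exact (Nondegenerate.eq_or_eq h5 hyl h4 h3).resolve_right h2.symm
  -- `a'`
  obtain ⟨a', ha'l, hay, hRa⟩ : ∃ a' : P, a' ∈ l ∧ a' ≠ y ∧ ∀ ρ ∈ R, ρ.pt a' = a' := by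
    by_cases hyp : y = p
    · exact ⟨Q, hQl, by rw [hyp]; exact hQp, fun ρ hρ => hρ.2⟩
    · exact ⟨p, hpl, fun h => hyp h.symm, fun ρ hρ => (hfix ρ (hRS hρ)).1⟩
  -- `K`
  set Ga : Subgroup (Coll P L) := G ⊓ Fx ptHom a' with hGadef
  set K : Subgroup (Coll P L) := Ga ⊓ Fx ptHom y with hKdef
  haveI : Nontrivial P := by
    rw [← Fintype.one_lt_card_iff_nontrivial, ← Nat.card_eq_fintype_card, hcP]
    nlinarith
  have hcG : Nat.card G = (n ^ 2 + n + 1) * Nat.card Ga := by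
    have h1 := CaseOneAux.card_orbit_stab (ptHom (P := P) (L := L)) G (Set.univ : Set P) (w := a') (Set.mem_univ _)
      (fun _ _ _ _ => Set.mem_univ _)
      (by
        intro q _
        obtain ⟨b, hb⟩ := exists_ne a'
        obtain ⟨b', hb'⟩ := exists_ne q
        obtain ⟨g, hg, hg1, -⟩ := hG a' b q b' hb.symm hb'.symm
        exact ⟨g, hg, hg1⟩)
    rw [h1, Nat.card_congr (Equiv.Set.univ P), hcP]
  have hcΩa : Nat.card ↥{q : P | q ≠ a'} = n ^ 2 + n := by
    have h1 := Set.ncard_add_ncard_compl ({a'} : Set P)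
    have h2 : ({a'} : Set P)ᶜ = {q : P | q ≠ a'} := by
      ext q; simp
    rw [Set.ncard_singleton, h2, hcP, ← Nat.card_coe_set_eq] at h1
    omega
  have hcGa : Nat.card Ga = (n ^ 2 + n) * Nat.card K := by
    have h1 := CaseOneAux.card_orbit_stab (ptHom (P := P) (L := L)) Ga {q : P | q ≠ a'} (w := y) (fun h => hay h.symm)
      (by
        rintro g ⟨-, hg⟩ q hq h
        apply hq
        apply g.pt.injective
        show g.pt q = g.pt a'
        rw [show g.pt a' = a' from hg]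
        exact h)
      (by
        intro q hq
        obtain ⟨g, hg, hg1, hg2⟩ := hG a' y a' q hay hq.symm
        exact ⟨g, ⟨hg, hg1⟩, hg2⟩)
    rw [h1, hcΩa]
  have hRK : R ≤ K := fun ρ hρ => ⟨⟨hS.le (hRS hρ), hRa ρ hρ⟩, hRy ρ hρ⟩
  have hSG := CaseOneAux.rel_card hS.le
  have hRKc := CaseOneAux.rel_card hRK
  have hSyl : IsSyl r R K := by
    refine ⟨hRK, hRp, ?_⟩
    intro hdvd
    apply hS.idx
    have hi : S.relIndex G = (n ^ 2 + n + 1) * (n + 1) * R.relIndex K := by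
      rw [hcS, hcG, hcGa, ← hRKc, hcR] at hSG
      have h2 : n ^ 2 * S.relIndex G = n ^ 2 * ((n ^ 2 + n + 1) * (n + 1) * R.relIndex K) := by
        rw [mul_comm (n ^ 2), hSG]
        ring
      exact Nat.eq_of_mul_eq_mul_left (by positivity) h2
    rw [hi]
    exact hdvd.mul_left _
  -- lines through `y`
  have hcΩ₂ : Nat.card ↥{m' : L | y ∈ m' ∧ m' ≠ l} = n := by
    have h3 := ProjectivePlane.lineCount_eq L y
    rw [lineCount] at h3
    have h2 : {m' : L | y ∈ m'}.ncard = n + 1 := by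
      rw [← Nat.card_coe_set_eq]
      exact h3
    have h5 : {m' : L | y ∈ m' ∧ m' ≠ l} = {m' : L | y ∈ m'} \ {l} := by
      ext q; simp
    rw [Nat.card_coe_set_eq, h5, Set.ncard_diff_singleton_of_mem (by exact hyl), h2]
    simp
  have hKl : ∀ k ∈ K, k.ln l = l := by
    rintro k ⟨⟨-, hk1⟩, hk2⟩
    exact BasicsAux.ln_fix k hay ha'l hyl hk1 hk2
  have hinv2 : ∀ k ∈ K, ∀ m' ∈ ({m' : L | y ∈ m' ∧ m' ≠ l} : Set L), lnHom k m' ∈ ({m' : L | y ∈ m' ∧ m' ≠ l} : Set L) := by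
    rintro k hk m' ⟨hy, hne⟩
    refine ⟨?_, ?_⟩
    · have h1 := (k.inc y m').mpr hy
      rwa [show k.pt y = y from hk.2] at h1
    · intro h
      apply hne
      apply k.ln.injective
      rw [hKl k hk]
      exact h
  have hnota : ∀ m' : L, y ∈ m' → m' ≠ l → a' ∉ m' := by
    intro m' hy hne h
    exact hne ((Nondegenerate.eq_or_eq h hy ha'l hyl).resolve_left hay)
  have htr2 : ∀ m₁ ∈ ({m' : L | y ∈ m' ∧ m' ≠ l} : Set L), ∀ m₂ ∈ ({m' : L | y ∈ m' ∧ m' ≠ l} : Set L), ∃ s ∈ R, lnHom s m₁ = m₂ := by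
    apply IsSyl.trans (lnHom (P := P) (L := L)) (b := a) hSyl {m' : L | y ∈ m' ∧ m' ≠ l} hinv2
    · rintro m₁ ⟨h1, h1'⟩ m₂ ⟨h2, h2'⟩
      obtain ⟨g, hg, hg1, hg2, hg3⟩ := tri_trans hG hay h1 (hnota m₁ h1 h1') hay h2 (hnota m₂ h2 h2')
      exact ⟨g, ⟨⟨hg, hg1⟩, hg2⟩, hg3⟩
    · rw [hcΩ₂]
      exact hn
  have hmΩ : m ∈ ({m' : L | y ∈ m' ∧ m' ≠ l} : Set L) := ⟨hym, hml⟩
  have h1 := CaseOneAux.card_orbit_stab (lnHom (P := P) (L := L)) R {m' : L | y ∈ m' ∧ m' ≠ l} hmΩ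
    (fun s hs => hinv2 s (hRK hs)) (fun q hq => htr2 m hmΩ q hq)
  rw [hcR, hcΩ₂] at h1
  have h2 : Nat.card ↥(R ⊓ Fx lnHom m) = 1 := by
    have h3 : n * 1 = n * Nat.card ↥(R ⊓ Fx lnHom m) := by
      rw [mul_one]; exact h1
    exact (Nat.eq_of_mul_eq_mul_left hnpos h3).symm
  have hzm2 : z ∈ R ⊓ Fx lnHom m := ⟨hzR, hzm⟩
  exact hz1' (by
    have h4 := (Nat.card_eq_one_iff_unique.mp h2).1
    have h5 := h4.elim ⟨z, hzm2⟩ ⟨1, Subgroup.one_mem _⟩
    exact congrArg Subtype.val h5)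

end Cfsg.Agent.Lib.OW.OP

namespace Cfsg.Agent.Lib.OW

universe u v

/-- Induction hypothesis in universes `u v` (a copy of the one in `Cases`). -/
def IHOP (n : ℕ) : Prop :=
  ∀ (P' : Type u) (L' : Type v) [Membership P' L'] [Fintype P'] [Fintype L'] [Configuration.ProjectivePlane P' L'],
    Configuration.ProjectivePlane.order P' L' < n → ∀ G' : Subgroup (Coll P' L'), TwoTrans G' → HasElation G'

end Cfsg.Agent.Lib.OW

namespace Cfsg.Agent.Lib.OW.OP

open Configuration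

universe u v

variable {P : Type u} {L : Type v} [Membership P L] [Fintype P] [Fintype L] [ProjectivePlane P L]

section P6

open WittAux in
/-- Witt's argument for stabilizers. -/
theorem witt_gen {W K K' : Subgroup (Coll P L)} {r : ℕ} [Fact r.Prime] (hWr : IsPGroup r W)
    (hWK : W ≤ K) (hWA : W ≤ K') {g : Coll P L}
    (hconj : ∀ q, g * q * g⁻¹ ∈ K' ↔ q ∈ K)
    (hmax : ∀ Q : Subgroup (Coll P L), Q ≤ K → IsPGroup r Q → W ≤ Q → Q = W) :
    ∃ h ∈ K', h * g ∈ Subgroup.normalizer (W : Set (Coll P L)) := by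
  classical
  have hmax' : ∀ Q : Subgroup (Coll P L), Q ≤ K' → IsPGroup r Q → cj g W ≤ Q → Q = cj g W := by
    intro Q hQA hQr hQ
    have hR : cj g⁻¹ Q = W := by
      apply hmax
      · intro q hq
        rw [mem_cj] at hq
        simp only [inv_inv] at hq
        exact (hconj q).1 (hQA hq)
      · exact isPGroup_cj _ hQr
      · intro w hw
        rw [mem_cj]
        simp only [inv_inv]
        apply hQ
        rw [mem_cj]
        simpa [mul_assoc] using hw
    ext h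
    rw [mem_cj, ← hR, mem_cj]
    simp only [inv_inv]
    have e : g * (g⁻¹ * h * g) * g⁻¹ = h := by group
    rw [e]
  have hcA : cj g W ≤ K' := by
    intro h hh
    rw [mem_cj] at hh
    have hh' : h = g * (g⁻¹ * h * g) * g⁻¹ := by group
    rw [hh']
    exact (hconj _).2 (hWK hh)
  have hWApg : IsPGroup r (W.subgroupOf K') := hWr.comap_of_injective K'.subtype K'.subtype_injective
  have hcApg : IsPGroup r ((cj g W).subgroupOf K') :=
    (isPGroup_cj g hWr).comap_of_injective K'.subtype K'.subtype_injective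
  obtain ⟨Q₀, hQ₀⟩ := hWApg.exists_le_sylow
  obtain ⟨Q₁, hQ₁⟩ := hcApg.exists_le_sylow
  have hQ₁' : (Q₁ : Subgroup K').map K'.subtype = cj g W := by
    apply hmax'
    · rintro _ ⟨z, _, rfl⟩
      exact z.2
    · exact Q₁.isPGroup'.map _
    · intro h hh
      exact ⟨⟨h, hcA hh⟩, hQ₁ (by simpa [Subgroup.mem_subgroupOf] using hh), rfl⟩
  obtain ⟨h, hh⟩ := MulAction.exists_smul_eq K' Q₁ Q₀
  set n : Coll P L := (h : Coll P L) * g with hn
  have hnsub : ∀ w ∈ W, n⁻¹ * w * n ∈ W := by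
    intro w hw
    have h1 : (⟨w, hWA hw⟩ : K') ∈ (Q₀ : Subgroup K') :=
      hQ₀ (by simpa [Subgroup.mem_subgroupOf] using hw)
    rw [← hh, Sylow.coe_subgroup_smul, Subgroup.mem_pointwise_smul_iff_inv_smul_mem] at h1
    have h2 : (((MulAut.conj h)⁻¹ • (⟨w, hWA hw⟩ : K') : K') : Coll P L) ∈
        (Q₁ : Subgroup K').map K'.subtype := ⟨_, h1, rfl⟩
    rw [hQ₁', mem_cj] at h2
    have e : ((MulAut.conj h)⁻¹ • (⟨w, hWA hw⟩ : K') : K') = h⁻¹ * ⟨w, hWA hw⟩ * h := by
      simp [MulAut.smul_def, MulAut.conj_symm_apply, MulAut.inv_def]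
    rw [e] at h2
    have e2 : n⁻¹ * w * n = g⁻¹ * (((h⁻¹ * ⟨w, hWA hw⟩ * h : K')) : Coll P L) * g := by
      simp [hn, mul_assoc]
    rw [e2]; exact h2
  have hcW : cj n⁻¹ W = W := by
    apply Subgroup.eq_of_le_of_card_ge
    · intro z hz
      rw [mem_cj] at hz
      simp only [inv_inv] at hz
      have := hnsub _ hz
      have e : n⁻¹ * (n * z * n⁻¹) * n = z := by group
      rwa [e] at this
    · rw [card_cj]
  refine ⟨h, h.2, ?_⟩
  rw [Subgroup.mem_normalizer_iff]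
  intro z
  constructor
  · intro hz
    have : z ∈ cj n⁻¹ W := by rw [hcW]; exact hz
    rw [mem_cj] at this
    simp only [inv_inv] at this
    exact this
  · intro hz
    have := hnsub _ hz
    have e : n⁻¹ * (n * z * n⁻¹) * n = z := by group
    rwa [e] at this

theorem fixl_of_conj {g q : Coll P L} {a x : L} (hga : g.ln a = x) (h : (g * q * g⁻¹).ln x = x) : q.ln a = a := by
  subst hga
  simpa using h

theorem fixl_conj {g q : Coll P L} {a x : L} (hga : g.ln a = x) (h : q.ln a = a) : (g * q * g⁻¹).ln x = x := by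
  subst hga
  simpa using h

/-- Conjugation carries the stabilizer of a triple to the stabilizer of the image. -/
theorem conj_mem_Gf {G : Subgroup (Coll P L)} {n : Coll P L} (hn : n ∈ G) {x p a b : P} {l m : L} (hx : n.pt x = a)
    (hp : n.pt p = b) (hl : n.ln l = m) (q : Coll P L) : n * q * n⁻¹ ∈ Gf G {a, b} {m} ↔ q ∈ Gf G {x, p} {l} := by
  constructor
  · rintro ⟨h1, h2, h3⟩
    refine ⟨?_, ?_, ?_⟩
    · have e : q = n⁻¹ * (n * q * n⁻¹) * n := by group
      rw [e]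
      exact G.mul_mem (G.mul_mem (G.inv_mem hn) h1) hn
    · rintro _ (rfl | rfl)
      · exact WittAux.fix_of_conj hx (h2 a (Or.inl rfl))
      · exact WittAux.fix_of_conj hp (h2 b (Or.inr rfl))
    · rintro _ rfl
      exact fixl_of_conj hl (h3 m rfl)
  · rintro ⟨h1, h2, h3⟩
    refine ⟨G.mul_mem (G.mul_mem hn h1) (G.inv_mem hn), ?_, ?_⟩
    · rintro _ (rfl | rfl)
      · exact WittAux.fix_conj hx (h2 x (Or.inl rfl))
      · exact WittAux.fix_conj hp (h2 p (Or.inr rfl))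
    · rintro _ rfl
      exact fixl_conj hl (h3 l rfl)

/-- The number of fixed points on a fixed line. -/
theorem fixed_count {W : Subgroup (Coll P L)} {r : ℕ} [Fact r.Prime] (hW : IsPGroup r W) {m : L} (hm : ∀ w ∈ W, w.ln m = m) :
    Nat.card {q : P // q ∈ m ∧ ∀ w ∈ W, w.pt q = q} ≡ ProjectivePlane.order P L + 1 [MOD r] := by
  classical
  have hin : ∀ w ∈ W, ∀ q : P, q ∈ m → w.pt q ∈ m := by
    intro w hw q hq
    have := (w.inc q m).2 hq
    rwa [hm w hw] at this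
  letI act : MulAction ↥W {q : P // q ∈ m} :=
    { smul := fun w q => ⟨w.1.pt q.1, hin w.1 w.2 q.1 q.2⟩
      one_smul := fun q => Subtype.ext rfl
      mul_smul := fun a b q => Subtype.ext rfl }
  have h := hW.card_modEq_card_fixedPoints {q : P // q ∈ m}
  have h1 : Nat.card {q : P // q ∈ m} = ProjectivePlane.order P L + 1 := ProjectivePlane.pointCount_eq P m
  have h2 : Nat.card (MulAction.fixedPoints ↥W {q : P // q ∈ m}) = Nat.card {q : P // q ∈ m ∧ ∀ w ∈ W, w.pt q = q} := by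
    refine Nat.card_congr ⟨fun q => ⟨q.1.1, q.1.2, fun w hw => congrArg Subtype.val (q.2 ⟨w, hw⟩)⟩,
      fun q => ⟨⟨q.1, q.2.1⟩, fun w => Subtype.ext (q.2.2 w.1 w.2)⟩, fun q => rfl, fun q => rfl⟩
  rw [h1, h2] at h
  exact h.symm

theorem third_fixed {W : Subgroup (Coll P L)} {r : ℕ} [Fact r.Prime] (hW : IsPGroup r W) (hr : r ∣ ProjectivePlane.order P L)
    {m : L} (hm : ∀ w ∈ W, w.ln m = m) {b₁ b₂ : P} (h12 : b₁ ≠ b₂) (h1 : b₁ ∈ m) (h2 : b₂ ∈ m)
    (hf1 : ∀ w ∈ W, w.pt b₁ = b₁) (hf2 : ∀ w ∈ W, w.pt b₂ = b₂) :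
    ∃ b₃, b₃ ∈ m ∧ (∀ w ∈ W, w.pt b₃ = b₃) ∧ b₃ ≠ b₁ ∧ b₃ ≠ b₂ := by
  classical
  by_contra hcon
  push Not at hcon
  have hc := fixed_count hW hm
  have h3 : Nat.card {q : P // q ∈ m ∧ ∀ w ∈ W, w.pt q = q} = 2 := by
    have hs : {q : P | q ∈ m ∧ ∀ w ∈ W, w.pt q = q} = {b₁, b₂} := by
      ext q
      constructor
      · rintro ⟨a, b⟩
        by_cases h : q = b₁
        · exact Or.inl h
        · exact Or.inr (hcon q a b h)
      · rintro (rfl | rfl)
        · exact ⟨h1, hf1⟩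
        · exact ⟨h2, hf2⟩
    have e := Set.ncard_pair h12
    rw [← hs] at e
    rw [← e]
    exact Nat.card_coe_set_eq _
  rw [h3] at hc
  have hr1 : 1 < r := (Fact.out : r.Prime).one_lt
  have h4 : ProjectivePlane.order P L + 1 ≡ 1 [MOD r] := by
    obtain ⟨k, hk⟩ := hr
    rw [hk]
    show (r * k + 1) % r = 1 % r
    rw [Nat.mul_add_mod]
  have h5 : 1 ≡ 2 [MOD r] := h4.symm.trans hc.symm
  have h6 := (Nat.modEq_iff_dvd' (by norm_num : 1 ≤ 2)).1 h5
  have h7 : r ∣ 1 := h6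
  exact absurd (Nat.le_of_dvd one_pos h7) (by omega)

/-- A quadrangle in the fixed structure. -/
theorem quad_of {W : Subgroup (Coll P L)} {r : ℕ} [Fact r.Prime] (hW : IsPGroup r W) (hr : r ∣ ProjectivePlane.order P L)
    {x p u : P} (hxp : x ≠ p) (hfx : ∀ w ∈ W, w.pt x = x) (hfp : ∀ w ∈ W, w.pt p = p) (hfu : ∀ w ∈ W, w.pt u = u)
    (hu : u ∉ (HasLines.mkLine hxp : L)) : HasQuad W := by
  have ax₁ := HasLines.mkLine_ax (L := L) hxp
  have hxu : x ≠ u := fun e => hu (e ▸ ax₁.1)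
  have ax₂ := HasLines.mkLine_ax (L := L) hxu
  generalize (HasLines.mkLine hxp : L) = m₁ at ax₁ hu
  generalize (HasLines.mkLine hxu : L) = m₂ at ax₂
  have hm₁f : ∀ w ∈ W, w.ln m₁ = m₁ := fun w hw => Th2Aux.fix_line w hxp ax₁.1 ax₁.2 (hfx w hw) (hfp w hw)
  have hm₂f : ∀ w ∈ W, w.ln m₂ = m₂ := fun w hw => Th2Aux.fix_line w hxu ax₂.1 ax₂.2 (hfx w hw) (hfu w hw)
  obtain ⟨w₁, hw₁m, hw₁f, hw₁x, hw₁p⟩ := third_fixed hW hr hm₁f hxp ax₁.1 ax₁.2 hfx hfp
  obtain ⟨w₂, hw₂m, hw₂f, hw₂x, hw₂u⟩ := third_fixed hW hr hm₂f hxu ax₂.1 ax₂.2 hfx hfu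
  have hne : m₁ ≠ m₂ := fun e => hu (e ▸ ax₂.2)
  have hint : ∀ q, q ∈ m₁ → q ∈ m₂ → q = x := by
    intro q h1 h2
    rcases Nondegenerate.eq_or_eq h1 ax₁.1 h2 ax₂.1 with e | e
    · exact e
    · exact absurd e hne
  have hpm₂ : p ∉ m₂ := fun h => hxp (hint p ax₁.2 h).symm
  have hw₁m₂ : w₁ ∉ m₂ := fun h => hw₁x (hint w₁ hw₁m h)
  have hw₂m₁ : w₂ ∉ m₁ := fun h => hw₂x (hint w₂ h hw₂m)
  refine ⟨⟨p, hfp⟩, ⟨w₁, hw₁f⟩, ⟨u, hfu⟩, ⟨w₂, hw₂f⟩, ?_, ?_, ?_, ?_, ?_, ?_, ?_⟩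
  · exact fun e => hw₁p (congrArg Subtype.val e).symm
  · intro e
    have e' : p = u := congrArg Subtype.val e
    exact hu (e' ▸ ax₁.2)
  · intro e
    have e' : p = w₂ := congrArg Subtype.val e
    exact hpm₂ (e' ▸ hw₂m)
  · intro e
    have e' : w₁ = u := congrArg Subtype.val e
    exact hu (e' ▸ hw₁m)
  · intro e
    have e' : w₁ = w₂ := congrArg Subtype.val e
    exact hw₁m₂ (e' ▸ hw₂m)
  · intro e
    have e' : u = w₂ := congrArg Subtype.val e
    exact hw₂u e'.symm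
  · intro l'
    have hm1 : p ∈ l' → w₁ ∈ l' → l' = m₁ := by
      intro h1 h2
      rcases Nondegenerate.eq_or_eq h1 h2 ax₁.2 hw₁m with e | e
      · exact absurd e.symm hw₁p
      · exact e
    have hm2 : u ∈ l' → w₂ ∈ l' → l' = m₂ := by
      intro h1 h2
      rcases Nondegenerate.eq_or_eq h1 h2 ax₂.2 hw₂m with e | e
      · exact absurd e.symm hw₂u
      · exact e
    refine ⟨?_, ?_, ?_, ?_⟩
    · rintro ⟨h1, h2, h3⟩
      have := hm1 h1 h2
      exact hu (this ▸ h3)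
    · rintro ⟨h1, h2, h3⟩
      have := hm1 h1 h2
      exact hw₂m₁ (this ▸ h3)
    · rintro ⟨h1, h2, h3⟩
      have := hm2 h2 h3
      exact hpm₂ (this ▸ h1)
    · rintro ⟨h1, h2, h3⟩
      have := hm2 h2 h3
      exact hw₁m₂ (this ▸ h1)

theorem coll_one_of_pts {g : Coll P L} (h : ∀ q, g.pt q = q) : g = 1 := by
  apply Coll.ext
  · exact Equiv.ext h
  · apply Equiv.ext
    intro m
    obtain ⟨p₀, -⟩ := Nondegenerate.exists_point (P := P) m
    obtain ⟨a, ha, -, -⟩ := Th2Aux.exists_third (P := P) m p₀ p₀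
    obtain ⟨b, hb, hba, -⟩ := Th2Aux.exists_third (P := P) m a a
    exact Th2Aux.fix_line g hba.symm ha hb (h a) (h b)

/-- The fixed plane is smaller. -/
theorem order_lt {W : Subgroup (Coll P L)} (hW : W ≠ ⊥) (hQ : HasQuad W) :
    letI := fixPlane W hQ
    ProjectivePlane.order (FixP W) (FixL W) < ProjectivePlane.order P L := by
  classical
  letI pl := fixPlane W hQ
  haveI : Fintype (FixP W) := Fintype.ofFinite _
  haveI : Fintype (FixL W) := Fintype.ofFinite _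
  by_contra hcon
  push Not at hcon
  apply hW
  have h1 : Nat.card (FixP W) = ProjectivePlane.order (FixP W) (FixL W) ^ 2 + ProjectivePlane.order (FixP W) (FixL W) + 1 := by
    rw [Nat.card_eq_fintype_card]
    exact ProjectivePlane.card_points _ _
  have h2 : Nat.card P = ProjectivePlane.order P L ^ 2 + ProjectivePlane.order P L + 1 := by
    rw [Nat.card_eq_fintype_card]
    exact ProjectivePlane.card_points _ _
  have hle : Nat.card P ≤ Nat.card (FixP W) := by
    rw [h1, h2]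
    nlinarith
  have hb := (Function.Injective.bijective_of_nat_card_le (f := (Subtype.val : FixP W → P)) Subtype.val_injective hle).2
  rw [Subgroup.eq_bot_iff_forall]
  intro w hw
  apply coll_one_of_pts
  intro q
  obtain ⟨q', rfl⟩ := hb q
  exact q'.2 w hw

/-- The order of the fixed plane is divisible by `r`. -/
theorem dvd_order_fix {W : Subgroup (Coll P L)} {r : ℕ} [Fact r.Prime] (hW : IsPGroup r W) (hr : r ∣ ProjectivePlane.order P L)
    (hQ : HasQuad W) (m : FixL W) :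
    letI := fixPlane W hQ
    r ∣ ProjectivePlane.order (FixP W) (FixL W) := by
  classical
  letI pl := fixPlane W hQ
  haveI : Fintype (FixP W) := Fintype.ofFinite _
  haveI : Fintype (FixL W) := Fintype.ofFinite _
  have h1 : Nat.card {q : FixP W // q ∈ m} = ProjectivePlane.order (FixP W) (FixL W) + 1 := ProjectivePlane.pointCount_eq (FixP W) m
  have h2 : Nat.card {q : FixP W // q ∈ m} = Nat.card {q : P // q ∈ m.1 ∧ ∀ w ∈ W, w.pt q = q} := by
    refine Nat.card_congr ⟨fun q => ⟨q.1.1, q.2, q.1.2⟩, fun q => ⟨⟨q.1, q.2.2⟩, q.2.1⟩, fun q => rfl, fun q => rfl⟩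
  have h3 := fixed_count hW m.2
  rw [← h2, h1] at h3
  have h4 := Nat.ModEq.add_right_cancel' 1 h3
  exact (h4.dvd_iff (dvd_refl r)).2 hr

end P6

/-- [P6] -/
theorem case_sub (IH : IHOP.{u, v} (ProjectivePlane.order P L)) {G S : Subgroup (Coll P L)} (hG : TwoTrans G) {r a : ℕ} [Fact r.Prime]
    (hr2 : r ≠ 2) (hn : ProjectivePlane.order P L = r ^ a) (ha : 0 < a)
    {p x u : P} {l : L} (hS : IsSyl r S G) (hpl : p ∈ l) (hfix : ∀ s ∈ S, s.pt p = p ∧ s.ln l = l) (hx : x ∉ l) (hxp : x ≠ p)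
    (hY : Gf S {x} ∅ ≠ ⊥) (hu : ∀ y ∈ Gf S {x} ∅, y.pt u = u) (hux : u ∉ (HasLines.mkLine hxp : L)) : False := by
  classical
  set Y := Gf S {x} ∅ with hYd
  have hSG := hS.le
  have hYS : Y ≤ S := fun g hg => hg.1
  have hYr : IsPGroup r Y := hS.pg.to_le hYS
  have hYx : ∀ y ∈ Y, y.pt x = x := fun y hy => hy.2.1 x rfl
  have hYp : ∀ y ∈ Y, y.pt p = p := fun y hy => (hfix y hy.1).1
  have hYl : ∀ y ∈ Y, y.ln l = l := fun y hy => (hfix y hy.1).2
  have hrn : r ∣ ProjectivePlane.order P L := by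
    rw [hn]
    exact dvd_pow_self r ha.ne'
  have hQ : HasQuad Y := quad_of hYr hrn hxp hYx hYp hu hux
  have hrp : r.Prime := Fact.out
  -- `Y` is maximal in the stabilizer of the triple `(x, p, l)`
  have hmax0 : ∀ Q : Subgroup (Coll P L), Q ≤ Gf G {x, p} {l} → IsPGroup r Q → Y ≤ Q → Q = Y := by
    have hSK : S ≤ Gf G {p} {l} := fun s hs =>
      ⟨hSG hs, by rintro _ rfl; exact (hfix s hs).1, by rintro _ rfl; exact (hfix s hs).2⟩
    have hKG : Gf G {p} {l} ≤ G := fun g hg => hg.1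
    have hK₀ : IsSyl r S (Gf G {p} {l}) := by
      refine ⟨hSK, hS.pg, ?_⟩
      intro hd
      apply hS.idx
      rw [← Subgroup.relIndex_mul_relIndex S (Gf G {p} {l}) G hSK hKG]
      exact Dvd.dvd.mul_right hd _
    have hinv : ∀ k ∈ Gf G {p} {l}, ∀ q ∈ ({a | a ∉ l} : Set P), ptHom k q ∈ ({a | a ∉ l} : Set P) := by
      intro k hk q hq h
      apply hq
      have h2 := k.inc q l
      rw [hk.2.2 l rfl] at h2
      exact h2.1 h
    have htr : ∀ q ∈ ({a | a ∉ l} : Set P), ∀ q' ∈ ({a | a ∉ l} : Set P), ∃ k ∈ Gf G {p} {l}, ptHom k q = q' := by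
      intro q hq q' hq'
      have hqp : q ≠ p := fun e => hq (e ▸ hpl)
      have hqp' : q' ≠ p := fun e => hq' (e ▸ hpl)
      obtain ⟨g, hg, h1, h2, h3⟩ := tri_trans hG hqp hpl hq hqp' hpl hq'
      exact ⟨g, ⟨hg, by rintro _ rfl; exact h2, by rintro _ rfl; exact h3⟩, h1⟩
    have hc : Nat.card ↥({a | a ∉ l} : Set P) = r ^ (a * 2) := by
      rw [Th2Aux.card_off l, hn, pow_mul]
    have hst := IsSyl.stab ptHom hK₀ ({a | a ∉ l} : Set P) hinv htr hc (w := x) hx
    have hYeq : S ⊓ Fx ptHom x = Y := by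
      ext g
      constructor
      · rintro ⟨h1, h2⟩
        exact ⟨h1, by rintro _ rfl; exact h2, by simp⟩
      · rintro ⟨h1, h2, -⟩
        exact ⟨h1, h2 x rfl⟩
    rw [hYeq] at hst
    intro Q hQK hQr hYQ
    refine IsSyl.eq_of_le hst ?_ hQr hYQ
    intro q hq
    have h1 := hQK hq
    exact ⟨⟨h1.1, by rintro _ rfl; exact h1.2.1 _ (Or.inr rfl), h1.2.2⟩, h1.2.1 x (Or.inl rfl)⟩
  -- the normalizer is transitive on triples
  have hTrip : ∀ (a₁ b₁ : P) (m₁ : L), (∀ y ∈ Y, y.pt a₁ = a₁) → (∀ y ∈ Y, y.pt b₁ = b₁) → (∀ y ∈ Y, y.ln m₁ = m₁) →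
      b₁ ∈ m₁ → a₁ ∉ m₁ →
      ∃ n ∈ G, n ∈ Subgroup.normalizer (Y : Set (Coll P L)) ∧ n.pt x = a₁ ∧ n.pt p = b₁ ∧ n.ln l = m₁ := by
    intro a₁ b₁ m₁ h1 h2 h3 hb ha'
    have hab : a₁ ≠ b₁ := fun e => ha' (e ▸ hb)
    obtain ⟨g, hg, hgx, hgp, hgl⟩ := tri_trans hG hxp hpl hx hab hb ha'
    have hYK : Y ≤ Gf G {x, p} {l} := fun y hy =>
      ⟨hSG hy.1, by rintro _ (rfl | rfl); exact hYx y hy; exact hYp y hy, by rintro _ rfl; exact hYl y hy⟩
    have hYK' : Y ≤ Gf G {a₁, b₁} {m₁} := fun y hy =>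
      ⟨hSG hy.1, by rintro _ (rfl | rfl); exact h1 y hy; exact h2 y hy, by rintro _ rfl; exact h3 y hy⟩
    obtain ⟨h, hh, hN⟩ := witt_gen hYr hYK hYK' (conj_mem_Gf hg hgx hgp hgl) hmax0
    refine ⟨h * g, G.mul_mem hh.1 hg, hN, ?_, ?_, ?_⟩
    · show h.pt (g.pt x) = a₁
      rw [hgx]
      exact hh.2.1 _ (Or.inl rfl)
    · show h.pt (g.pt p) = b₁
      rw [hgp]
      exact hh.2.1 _ (Or.inr rfl)
    · show h.ln (g.ln l) = m₁
      rw [hgl]
      exact hh.2.2 _ rfl
  -- maximality at every triple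
  have hmaxT : ∀ (a₁ b₁ : P) (m₁ : L), (∀ y ∈ Y, y.pt a₁ = a₁) → (∀ y ∈ Y, y.pt b₁ = b₁) → (∀ y ∈ Y, y.ln m₁ = m₁) →
      b₁ ∈ m₁ → a₁ ∉ m₁ → ∀ Q : Subgroup (Coll P L), Q ≤ Gf G {a₁, b₁} {m₁} → IsPGroup r Q → Y ≤ Q → Q = Y := by
    intro a₁ b₁ m₁ h1 h2 h3 hb ha' Q hQK hQr hYQ
    obtain ⟨n, hnG, hnN, hnx, hnp, hnl⟩ := hTrip a₁ b₁ m₁ h1 h2 h3 hb ha'
    have hn' := Subgroup.mem_normalizer_iff.1 hnN
    have hR : WittAux.cj n⁻¹ Q = Y := by
      apply hmax0
      · intro q hq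
        rw [WittAux.mem_cj] at hq
        simp only [inv_inv] at hq
        exact (conj_mem_Gf hnG hnx hnp hnl q).1 (hQK hq)
      · exact WittAux.isPGroup_cj _ hQr
      · intro w hw
        rw [WittAux.mem_cj]
        simp only [inv_inv]
        exact hYQ ((hn' w).1 hw)
    apply le_antisymm _ hYQ
    intro z hz
    have h5 : n⁻¹ * z * n ∈ WittAux.cj n⁻¹ Q := by
      rw [WittAux.mem_cj]
      simp only [inv_inv]
      have e : n * (n⁻¹ * z * n) * n⁻¹ = z := by group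
      rw [e]
      exact hz
    rw [hR] at h5
    have h6 := (hn' _).1 h5
    have e : n * (n⁻¹ * z * n) * n⁻¹ = z := by group
    rwa [e] at h6
  -- the fixed plane
  letI pl : ProjectivePlane (FixP Y) (FixL Y) := fixPlane Y hQ
  haveI : Fintype (FixP Y) := Fintype.ofFinite _
  haveI : Fintype (FixL Y) := Fintype.ofFinite _
  have hlt : ProjectivePlane.order (FixP Y) (FixL Y) < ProjectivePlane.order P L := order_lt hY hQ
  have hline : ∀ p₁ p₂ : FixP Y, p₁ ≠ p₂ → ∃ m : FixL Y, p₂ ∈ m ∧ p₁ ∉ m := by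
    intro p₁ p₂ h12
    have ax := HasLines.mkLine_ax (L := FixL Y) h12
    obtain ⟨q, hq⟩ := Nondegenerate.exists_point (P := FixP Y) (HasLines.mkLine h12 : FixL Y)
    have hq2 : p₂ ≠ q := fun e => hq (e ▸ ax.2)
    have ax2 := HasLines.mkLine_ax (L := FixL Y) hq2
    refine ⟨HasLines.mkLine hq2, ax2.1, ?_⟩
    intro h1
    rcases Nondegenerate.eq_or_eq h1 ax2.1 ax.1 ax.2 with e | e
    · exact h12 e
    · exact hq (e ▸ ax2.2)
  let N := Subgroup.normalizer (Y : Set (Coll P L))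
  let G' : Subgroup (Coll (FixP Y) (FixL Y)) := (G.subgroupOf N).map (restr Y)
  have h2t : TwoTrans G' := by
    intro p₁ p₂ q₁ q₂ hp hq
    obtain ⟨m₁, hm₁, hm₁'⟩ := hline p₁ p₂ hp
    obtain ⟨m₂, hm₂, hm₂'⟩ := hline q₁ q₂ hq
    obtain ⟨n₁, hn₁G, hn₁N, h11, h12, -⟩ := hTrip p₁.1 p₂.1 m₁.1 p₁.2 p₂.2 m₁.2 hm₁ hm₁'
    obtain ⟨n₂, hn₂G, hn₂N, h21, h22, -⟩ := hTrip q₁.1 q₂.1 m₂.1 q₁.2 q₂.2 m₂.2 hm₂ hm₂'
    have hmemN : n₂ * n₁⁻¹ ∈ N := N.mul_mem hn₂N (N.inv_mem hn₁N)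
    refine ⟨restr Y ⟨n₂ * n₁⁻¹, hmemN⟩, ⟨⟨n₂ * n₁⁻¹, hmemN⟩, G.mul_mem hn₂G (G.inv_mem hn₁G), rfl⟩, ?_, ?_⟩
    · apply Subtype.ext
      show n₂.pt (n₁.pt⁻¹ p₁.1) = q₁.1
      rw [← h11, ← h21]
      simp
    · apply Subtype.ext
      show n₂.pt (n₁.pt⁻¹ p₂.1) = q₂.1
      rw [← h12, ← h22]
      simp
  have hE : HasElation G' := IH (FixP Y) (FixL Y) hlt G' h2t
  have hpp : IsPrimePow (ProjectivePlane.order (FixP Y) (FixL Y)) := th2_primePow h2t hE
  have hrd : r ∣ ProjectivePlane.order (FixP Y) (FixL Y) := dvd_order_fix hYr hrn hQ ⟨l, hYl⟩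
  obtain ⟨e', he', c', A', hne, hcA, hper⟩ := hE
  obtain ⟨⟨g, hgN⟩, hgG', hge⟩ := he'
  have hgG : g ∈ G := hgG'
  -- a line through the centre
  obtain ⟨q₀, hq₀⟩ := Nondegenerate.exists_point (P := FixP Y) A'
  have hcq : c' ≠ q₀ := fun e => hq₀ (e ▸ hcA)
  have axm := HasLines.mkLine_ax (L := FixL Y) hcq
  obtain ⟨m', hm'⟩ : ∃ m' : FixL Y, m' = HasLines.mkLine hcq := ⟨_, rfl⟩
  rw [← hm'] at axm
  have hm'A : m' ≠ A' := fun e => hq₀ (e ▸ axm.2)
  obtain ⟨a', ha'A, ha'c, -⟩ := Th2Aux.exists_third (P := FixP Y) A' c' c'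
  have ha'm : a' ∉ m' := by
    intro h
    rcases Nondegenerate.eq_or_eq h axm.1 ha'A hcA with e | e
    · exact ha'c e
    · exact hm'A e
  -- the order of the elation is a power of `r`
  have hdvd : orderOf e' ∣ ProjectivePlane.order (FixP Y) (FixL Y) := by
    have hper' : ∀ t ∈ Subgroup.zpowers e', IsPersp t c' A' := by
      intro t ht
      obtain ⟨k, rfl⟩ := (mem_powers_iff_mem_zpowers).2 ht
      exact Th2Aux.persp_pow hper k
    have h1 := Th2Aux.card_dvd_of_free (Subgroup.zpowers e') ({y : FixP Y | y ∈ m' ∧ y ≠ c'} : Set (FixP Y)) ?_ ?_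
    · rw [Nat.card_zpowers, Th2Aux.card_line_minus m' axm.1] at h1
      exact h1
    · rintro t ht y ⟨hy1, hy2⟩
      have h2 := hper' t ht
      refine ⟨?_, ?_⟩
      · have h3 := (t.inc y m').2 hy1
        rwa [h2.2 m' axm.1] at h3
      · intro h3
        apply hy2
        apply t.pt.injective
        rw [h3, h2.1 c' hcA]
    · rintro t ht y ⟨hy1, hy2⟩ h3
      have hyA : y ∉ A' := by
        intro h4
        rcases Nondegenerate.eq_or_eq hy1 axm.1 h4 hcA with e | e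
        · exact hy2 e
        · exact hm'A e
      exact Th2Aux.eq_one_of_fix (hper' t ht) hcA hyA h3
  obtain ⟨q, k, hq, hk, hqk⟩ := hpp
  have hqN : q.Prime := hq.nat_prime
  have hrq : r = q := by
    rw [← hqk] at hrd
    exact (Nat.prime_dvd_prime_iff_eq hrp hqN).1 (hrp.dvd_of_dvd_pow hrd)
  rw [← hqk, ← hrq] at hdvd
  obtain ⟨f, -, hf⟩ := (Nat.dvd_prime_pow hrp).1 hdvd
  -- the `r`-part of the lift
  obtain ⟨b, s, hs, hos⟩ := Nat.exists_eq_pow_mul_and_not_dvd (orderOf_pos g).ne' r hrp.ne_one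
  have hg₁pow : (g ^ s) ^ (r ^ b) = 1 := by
    rw [← pow_mul, mul_comm, ← hos, pow_orderOf_eq_one]
  have hzp : IsPGroup r (Subgroup.zpowers (g ^ s)) := by
    rintro ⟨z, hz⟩
    obtain ⟨t, rfl⟩ := Subgroup.mem_zpowers_iff.1 hz
    refine ⟨b, Subtype.ext ?_⟩
    show ((g ^ s) ^ t) ^ (r ^ b) = 1
    rw [← zpow_natCast, ← zpow_mul, mul_comm, zpow_mul, zpow_natCast, hg₁pow, one_zpow]
  have hgsN : g ^ s ∈ N := N.pow_mem hgN s
  have hzN : Subgroup.zpowers (g ^ s) ≤ N := Subgroup.zpowers_le.2 hgsN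
  -- what the lift fixes
  have hfa : g.pt a'.1 = a'.1 := by
    have h1 : ((restr Y ⟨g, hgN⟩).pt a').1 = g.pt a'.1 := restr_pt Y ⟨g, hgN⟩ a'
    rw [hge, hper.1 a' ha'A] at h1
    exact h1.symm
  have hfc : g.pt c'.1 = c'.1 := by
    have h1 : ((restr Y ⟨g, hgN⟩).pt c').1 = g.pt c'.1 := restr_pt Y ⟨g, hgN⟩ c'
    rw [hge, hper.1 c' hcA] at h1
    exact h1.symm
  have hfm : g.ln m'.1 = m'.1 := by
    have h1 : ((restr Y ⟨g, hgN⟩).ln m').1 = g.ln m'.1 := restr_ln Y ⟨g, hgN⟩ m'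
    rw [hge, hper.2 m' axm.1] at h1
    exact h1.symm
  have hgK : g ∈ Gf G {a'.1, c'.1} {m'.1} :=
    ⟨hgG, by rintro _ (rfl | rfl); exact hfa; exact hfc, by rintro _ rfl; exact hfm⟩
  have hsK : g ^ s ∈ Gf G {a'.1, c'.1} {m'.1} := (Gf G {a'.1, c'.1} {m'.1}).pow_mem hgK s
  have hYK'' : Y ≤ Gf G {a'.1, c'.1} {m'.1} := fun y hy =>
    ⟨hSG hy.1, by rintro _ (rfl | rfl); exact a'.2 y hy; exact c'.2 y hy, by rintro _ rfl; exact m'.2 y hy⟩
  have hQe := hmaxT a'.1 c'.1 m'.1 a'.2 c'.2 m'.2 axm.1 ha'm (Y ⊔ Subgroup.zpowers (g ^ s))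
    (sup_le hYK'' (Subgroup.zpowers_le.2 hsK)) (hYr.to_sup_of_normal_left' hzp hzN) le_sup_left
  have hsY : g ^ s ∈ Y := by
    rw [← hQe]
    exact (le_sup_right : Subgroup.zpowers (g ^ s) ≤ Y ⊔ Subgroup.zpowers (g ^ s)) (Subgroup.mem_zpowers _)
  -- so the power of the elation is trivial
  have hone : e' ^ s = 1 := by
    rw [← hge, ← map_pow]
    have h1 : (⟨g, hgN⟩ : N) ^ s = ⟨g ^ s, hgsN⟩ := rfl
    rw [h1]
    apply Coll.ext
    · apply Equiv.ext
      intro q'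
      apply Subtype.ext
      exact q'.2 _ hsY
    · apply Equiv.ext
      intro m''
      apply Subtype.ext
      exact m''.2 _ hsY
  have hds : orderOf e' ∣ s := orderOf_dvd_of_pow_eq_one hone
  rw [hf] at hds
  rcases Nat.eq_zero_or_pos f with h0 | h0
  · rw [h0, pow_zero] at hf
    exact hne (orderOf_eq_one_iff.1 hf)
  · exact hs (dvd_trans (dvd_pow_self r h0.ne') hds)

/-- [O1] -/
theorem oddpp_main (IH : IHOP.{u, v} (ProjectivePlane.order P L)) {G : Subgroup (Coll P L)} (hG : TwoTrans G)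
    (hn : Odd (ProjectivePlane.order P L)) (hp : IsPrimePow (ProjectivePlane.order P L)) : HasElation G := by
  obtain ⟨r, a, hr, ha, hra⟩ := hp
  have hrN : r.Prime := hr.nat_prime
  have : Fact r.Prime := ⟨hrN⟩
  have hr2 : r ≠ 2 := by
    rintro rfl
    rw [← hra] at hn
    have : Even (2 ^ a) := (Nat.even_pow' ha.ne').2 even_two
    exact (Nat.not_even_iff_odd.2 hn) this
  have hdvd : r ∣ ProjectivePlane.order P L := by
    rw [← hra]; exact dvd_pow_self r ha.ne'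
  obtain ⟨S, p, l, hS, hpl, hfix⟩ := exists_syl_flag (G := G) hdvd
  obtain ⟨x, hx⟩ := Nondegenerate.exists_point (P := P) l
  have hxp : x ≠ p := fun h => hx (h ▸ hpl)
  by_cases hF : ∀ u : P, (∀ y ∈ Gf S {x} ∅, y.pt u = u) → u ∈ (HasLines.mkLine hxp : L)
  · exact case_fix hG hra.symm ha hS hpl hfix hx hxp hF
  · push Not at hF
    obtain ⟨u, hu, hux⟩ := hF
    by_cases hY : Gf S {x} ∅ = ⊥
    · exact (case_one hG hra.symm ha hS hpl hfix hx hY).elim
    · exact (case_sub IH hG hr2 hra.symm ha hS hpl hfix hx hxp hY hu hux).elim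

end Cfsg.Agent.Lib.OW.OP
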