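import Cfsg.Agent.Lib.OW.OddPP
import Cfsg.Agent.Lib.OW.EETT

/-! # S3732 [P6] `case_sub`, first part.  See the header of `OddPP.lean`. -/

set_option autoImplicit false
set_option linter.unusedVariables false
set_option linter.unusedSectionVars false

namespace Cfsg.Agent.Lib.OW.OP.Sb

open Configuration
open scoped Pointwise

universe u v

section gr

variable {C : Type*} [Group C] [Finite C]

/-- Sylow conjugacy in the form used here. -/
lemma syl_conj {r : ℕ} [Fact r.Prime] {A B T : Subgroup C} (hA : A ≤ T) (hB : B ≤ T) (pA : IsPGroup r A) (pB : IsPGroup r B)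
    (iA : ¬ r ∣ A.relIndex T) (iB : ¬ r ∣ B.relIndex T) :
    ∃ h ∈ T, ∀ z ∈ T, z ∈ B ↔ h⁻¹ * z * h ∈ A := by
  have pA' : IsPGroup r (A.subgroupOf T) := pA.comap_of_injective T.subtype T.subtype_injective
  have pB' : IsPGroup r (B.subgroupOf T) := pB.comap_of_injective T.subtype T.subtype_injective
  let SA : Sylow r T := pA'.toSylow iA
  let SB : Sylow r T := pB'.toSylow iB
  obtain ⟨h, hh⟩ := MulAction.exists_smul_eq T SA SB
  refine ⟨h.1, h.2, fun z hz => ?_⟩
  have h1 : ((h • SA : Sylow r T) : Subgroup T) = (SB : Subgroup T) := congrArg _ hh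
  rw [Sylow.coe_subgroup_smul] at h1
  have h2 : (⟨z, hz⟩ : T) ∈ MulAut.conj h • (SA : Subgroup T) ↔ (⟨z, hz⟩ : T) ∈ (SB : Subgroup T) := by rw [h1]
  rw [Subgroup.mem_pointwise_smul_iff_inv_smul_mem] at h2
  have h3 : (MulAut.conj h)⁻¹ • (⟨z, hz⟩ : T) = h⁻¹ * ⟨z, hz⟩ * h := by
    rw [MulAut.smul_def, MulAut.conj_inv_apply]
  rw [h3] at h2
  exact h2.symm

lemma relIndex_eq_of_card {A B T : Subgroup C} (hA : A ≤ T) (hB : B ≤ T) (hc : Nat.card A = Nat.card B) :
    A.relIndex T = B.relIndex T := by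
  have h1 := Subgroup.card_mul_index (A.subgroupOf T)
  have h2 := Subgroup.card_mul_index (B.subgroupOf T)
  have h3 : Nat.card (A.subgroupOf T) = Nat.card A := Nat.card_congr (Subgroup.subgroupOfEquivOfLe hA).toEquiv
  have h4 : Nat.card (B.subgroupOf T) = Nat.card B := Nat.card_congr (Subgroup.subgroupOfEquivOfLe hB).toEquiv
  rw [h3] at h1
  rw [h4, ← hc] at h2
  have h5 : 0 < Nat.card A := Nat.card_pos
  exact Nat.eq_of_mul_eq_mul_left h5 (h1.trans h2.symm)

end gr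

variable {P : Type u} {L : Type v} [Membership P L] [Fintype P] [Fintype L] [ProjectivePlane P L]

/-- In a plane, a line through `b` missing `a`. -/
lemma exists_line (B : Type*) (BL : Type*) [Membership B BL] [ProjectivePlane B BL] {a b : B} (hab : a ≠ b) :
    ∃ m : BL, b ∈ m ∧ a ∉ m := by
  let ab : BL := HasLines.mkLine hab
  have hab' := HasLines.mkLine_ax (L := BL) hab
  obtain ⟨s, hs⟩ := Nondegenerate.exists_point (P := B) ab
  have hsb : b ≠ s := fun h => hs (h ▸ hab'.2)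
  refine ⟨HasLines.mkLine hsb, (HasLines.mkLine_ax (L := BL) hsb).1, fun h => ?_⟩
  rcases Nondegenerate.eq_or_eq (P := B) (L := BL) h (HasLines.mkLine_ax hsb).1 hab'.1 hab'.2 with e | e
  · exact hab e
  · have h2 := (HasLines.mkLine_ax (L := BL) hsb).2
    rw [e] at h2
    exact hs h2

lemma ln_fix' {Y : Subgroup (Coll P L)} {a b : P} {m : L} (hab : a ≠ b) (ha : a ∈ m) (hb : b ∈ m)
    (fa : ∀ y ∈ Y, y.pt a = a) (fb : ∀ y ∈ Y, y.pt b = b) : ∀ y ∈ Y, y.ln m = m := by
  intro y hy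
  have h1 : a ∈ y.ln m := by
    have := (y.inc a m).2 ha
    rwa [fa y hy] at this
  have h2 : b ∈ y.ln m := by
    have := (y.inc b m).2 hb
    rwa [fb y hy] at this
  rcases Nondegenerate.eq_or_eq (P := P) (L := L) h1 h2 ha hb with e | e
  · exact (hab e).elim
  · exact e

/-- A third fixed point on a fixed line with two. -/
lemma third {r : ℕ} [hr : Fact r.Prime] {Y : Subgroup (Coll P L)} (pY : IsPGroup r Y) (hrn : r ∣ ProjectivePlane.order P L) {m : L}
    (hm : ∀ y ∈ Y, y.ln m = m) {a b : P} (ha : a ∈ m) (hb : b ∈ m) (hab : a ≠ b) (fa : ∀ y ∈ Y, y.pt a = a)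
    (fb : ∀ y ∈ Y, y.pt b = b) : ∃ c : P, c ∈ m ∧ c ≠ a ∧ c ≠ b ∧ ∀ y ∈ Y, y.pt c = c := by
  classical
  by_contra hcon
  push Not at hcon
  let act : MulAction Y {q : P // q ∈ m} :=
    { smul := fun y q => ⟨y.1.pt q.1, by
        have := (y.1.inc q.1 m).2 q.2
        rwa [hm y.1 y.2] at this⟩
      one_smul := fun q => rfl
      mul_smul := fun y z q => rfl }
  have h1 := pY.card_modEq_card_fixedPoints {q : P // q ∈ m}
  have hc1 : Nat.card {q : P // q ∈ m} = ProjectivePlane.order P L + 1 := ProjectivePlane.pointCount_eq P m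
  have hfix : MulAction.fixedPoints Y {q : P // q ∈ m} = {⟨a, ha⟩, ⟨b, hb⟩} := by
    ext q
    constructor
    · intro hq
      by_contra hn
      simp only [Set.mem_insert_iff, Set.mem_singleton_iff, not_or] at hn
      have hqa : q.1 ≠ a := fun e => hn.1 (Subtype.ext e)
      have hqb : q.1 ≠ b := fun e => hn.2 (Subtype.ext e)
      obtain ⟨y, hy, hne⟩ := hcon q.1 q.2 hqa hqb
      exact hne (congrArg Subtype.val (hq ⟨y, hy⟩))
    · rintro (rfl | rfl) y
      · exact Subtype.ext (fa y.1 y.2)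
      · exact Subtype.ext (fb y.1 y.2)
  have hc2 : Nat.card (MulAction.fixedPoints Y {q : P // q ∈ m}) = 2 := by
    rw [hfix, Nat.card_coe_set_eq, Set.ncard_pair]
    exact fun e => hab (congrArg Subtype.val e)
  rw [hc1, hc2] at h1
  have h2 : (ProjectivePlane.order P L + 1) % r = 2 % r := h1
  obtain ⟨w, hw⟩ := hrn
  rw [hw] at h2
  have h3 : r ∣ 1 := by
    have h4 : (r * w + 1) ≡ 2 [MOD r] := h2
    have h5 : (1 : ℕ) ≡ 2 [MOD r] := by
      have h6 : (r * w + 1) ≡ 1 [MOD r] := by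
        simp [Nat.ModEq]
      exact h6.symm.trans h4
    exact (Nat.modEq_iff_dvd' (by norm_num)).1 h5
  exact hr.out.one_lt.ne' (Nat.dvd_one.1 h3)

/-- The quadrangle. -/
lemma hasQuad {r : ℕ} [Fact r.Prime] {Y : Subgroup (Coll P L)} (pY : IsPGroup r Y) (hrn : r ∣ ProjectivePlane.order P L)
    {x p u : P} (hxp : x ≠ p) (fx : ∀ y ∈ Y, y.pt x = x) (fp : ∀ y ∈ Y, y.pt p = p) (fu : ∀ y ∈ Y, y.pt u = u)
    (hux : u ∉ (HasLines.mkLine hxp : L)) : HasQuad Y := by
  set m₀ : L := HasLines.mkLine hxp with hm₀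
  have hm₀' := HasLines.mkLine_ax (L := L) hxp
  have fm₀ := ln_fix' (Y := Y) hxp hm₀'.1 hm₀'.2 fx fp
  obtain ⟨w, hw, hwx, hwp, fw⟩ := third pY hrn fm₀ hm₀'.1 hm₀'.2 hxp fx fp
  have huw : u ≠ w := fun e => hux (e ▸ hw)
  set m₁ : L := HasLines.mkLine huw with hm₁
  have hm₁' := HasLines.mkLine_ax (L := L) huw
  have fm₁ := ln_fix' (Y := Y) huw hm₁'.1 hm₁'.2 fu fw
  obtain ⟨t, ht, htu, htw, ft⟩ := third pY hrn fm₁ hm₁'.1 hm₁'.2 huw fu fw
  have hne01 : m₀ ≠ m₁ := fun e => hux (e ▸ hm₁'.1)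
  have htm₀ : t ∉ m₀ := by
    intro h
    rcases Nondegenerate.eq_or_eq (P := P) (L := L) h hw ht hm₁'.2 with e | e
    · exact htw e
    · exact hne01 e
  have hxm₁ : x ∉ m₁ := by
    intro h
    rcases Nondegenerate.eq_or_eq (P := P) (L := L) hm₀'.1 hw h hm₁'.2 with e | e
    · exact hwx e.symm
    · exact hne01 e
  have hpm₁ : p ∉ m₁ := by
    intro h
    rcases Nondegenerate.eq_or_eq (P := P) (L := L) hm₀'.2 hw h hm₁'.2 with e | e
    · exact hwp e.symm
    · exact hne01 e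
  have h01 : ∀ l : L, x ∈ l → p ∈ l → l = m₀ := by
    intro l h1 h2
    rcases Nondegenerate.eq_or_eq (P := P) (L := L) h1 h2 hm₀'.1 hm₀'.2 with e | e
    · exact (hxp e).elim
    · exact e
  have h23 : ∀ l : L, u ∈ l → t ∈ l → l = m₁ := by
    intro l h1 h2
    rcases Nondegenerate.eq_or_eq (P := P) (L := L) h1 h2 hm₁'.1 ht with e | e
    · exact (htu e.symm).elim
    · exact e
  have hxu : x ≠ u := fun e => hux (e ▸ hm₀'.1)
  have hxt : x ≠ t := fun e => htm₀ (e ▸ hm₀'.1)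
  have hpu : p ≠ u := fun e => hux (e ▸ hm₀'.2)
  have hpt : p ≠ t := fun e => htm₀ (e ▸ hm₀'.2)
  refine ⟨⟨x, fx⟩, ⟨p, fp⟩, ⟨u, fu⟩, ⟨t, ft⟩, fun e => hxp (congrArg Subtype.val e),
    fun e => hxu (congrArg Subtype.val e), fun e => hxt (congrArg Subtype.val e),
    fun e => hpu (congrArg Subtype.val e), fun e => hpt (congrArg Subtype.val e),
    fun e => htu (congrArg Subtype.val e).symm, fun l => ⟨?_, ?_, ?_, ?_⟩⟩
  · rintro ⟨h1, h2, h3⟩
    exact hux (h01 l h1 h2 ▸ h3)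
  · rintro ⟨h1, h2, h3⟩
    exact htm₀ (h01 l h1 h2 ▸ h3)
  · rintro ⟨h1, h2, h3⟩
    exact hxm₁ (h23 l h2 h3 ▸ h1)
  · rintro ⟨h1, h2, h3⟩
    exact hpm₁ (h23 l h2 h3 ▸ h1)

/-- An element fixing all points is trivial. -/
lemma eq_one_of_pts {g : Coll P L} (h : ∀ q, g.pt q = q) : g = 1 := by
  apply Coll.ext
  · ext q; exact h q
  · ext m
    obtain ⟨s, -⟩ := Nondegenerate.exists_point (P := P) m
    obtain ⟨a, ha, -, -⟩ := Cfsg.Agent.Lib.OW.BasicsAux.exists_third (P := P) m s s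
    obtain ⟨b, hb, hba, -⟩ := Cfsg.Agent.Lib.OW.BasicsAux.exists_third (P := P) m a a
    have h1 : a ∈ g.ln m := by
      have := (g.inc a m).2 ha
      rwa [h a] at this
    have h2 : b ∈ g.ln m := by
      have := (g.inc b m).2 hb
      rwa [h b] at this
    rcases Nondegenerate.eq_or_eq (P := P) (L := L) h1 h2 ha hb with e | e
    · exact (hba e.symm).elim
    · show g.ln m = m
      exact e

/-- The subplane is proper. -/
lemma order_lt {Y : Subgroup (Coll P L)} (hY : Y ≠ ⊥) (hQ : HasQuad Y) :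
    letI := fixPlane Y hQ
    ProjectivePlane.order (FixP Y) (FixL Y) < ProjectivePlane.order P L := by
  classical
  letI hPl := fixPlane Y hQ
  by_contra hlt
  push Not at hlt
  have h1 := ProjectivePlane.card_points P L
  have h2 := ProjectivePlane.card_points (FixP Y) (FixL Y)
  have h3 : Fintype.card P ≤ Fintype.card (FixP Y) := by
    rw [h1, h2]
    have := Nat.pow_le_pow_left hlt 2
    omega
  have hbij : Function.Bijective (Subtype.val : FixP Y → P) :=
    (Subtype.val_injective).bijective_of_nat_card_le (by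
      rw [Nat.card_eq_fintype_card, Nat.card_eq_fintype_card]; exact h3)
  apply hY
  rw [eq_bot_iff]
  intro y hy
  rw [Subgroup.mem_bot]
  apply eq_one_of_pts
  intro q
  obtain ⟨z, rfl⟩ := hbij.2 q
  exact z.2 y hy

/-- `r` divides the order of the subplane. -/
lemma dvd_order {r : ℕ} [hr : Fact r.Prime] {Y : Subgroup (Coll P L)} (pY : IsPGroup r Y) (hrn : r ∣ ProjectivePlane.order P L)
    (hQ : HasQuad Y) :
    letI := fixPlane Y hQ
    r ∣ ProjectivePlane.order (FixP Y) (FixL Y) := by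
  classical
  letI := fixPlane Y hQ
  obtain ⟨c, -⟩ : ∃ c : FixP Y, True := by
    obtain ⟨a, _⟩ := hQ
    exact ⟨a, trivial⟩
  let act : MulAction Y {m : L // c.1 ∈ m} :=
    { smul := fun y m => ⟨y.1.ln m.1, by
        have := (y.1.inc c.1 m.1).2 m.2
        rwa [c.2 y.1 y.2] at this⟩
      one_smul := fun q => rfl
      mul_smul := fun y z q => rfl }
  have h1 := pY.card_modEq_card_fixedPoints {m : L // c.1 ∈ m}
  have hc1 : Nat.card {m : L // c.1 ∈ m} = ProjectivePlane.order P L + 1 := ProjectivePlane.lineCount_eq L c.1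
  have hc2 : Nat.card {m : FixL Y // c ∈ m} = ProjectivePlane.order (FixP Y) (FixL Y) + 1 :=
    ProjectivePlane.lineCount_eq (FixL Y) c
  have hc3 : Nat.card (MulAction.fixedPoints Y {m : L // c.1 ∈ m}) = Nat.card {m : FixL Y // c ∈ m} := by
    apply Nat.card_congr
    refine ⟨fun z => ⟨⟨z.1.1, fun y hy => congrArg Subtype.val (z.2 ⟨y, hy⟩)⟩, z.1.2⟩,
      fun z => ⟨⟨z.1.1, z.2⟩, fun y => Subtype.ext (z.1.2 y.1 y.2)⟩, fun z => rfl, fun z => rfl⟩
  rw [hc3, hc1, hc2] at h1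
  have h2 : ProjectivePlane.order P L ≡ ProjectivePlane.order (FixP Y) (FixL Y) [MOD r] :=
    Nat.ModEq.add_right_cancel' 1 h1
  exact (Nat.ModEq.dvd_iff h2 (dvd_refl r)).1 hrn

end Cfsg.Agent.Lib.OW.OP.Sb
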