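import Cfsg.Agent.Lib.OW.T3Base

/-! [T3Kappa] The commutator pairing (algebra half of `T3Pair.exists_coord`). -/

set_option autoImplicit false

namespace Cfsg.Agent.Lib.OW.T3K

universe u

variable {Γ : Type u} [Group Γ]

/-- The commutator `κ(τ, s) = τ⁻¹ s τ s⁻¹`. -/
def kappa (τ s : Γ) : Γ := τ⁻¹ * s * τ * s⁻¹

/-- Hypotheses on the three root groups. -/
structure KData (A B C : Subgroup Γ) : Prop where
  A_comm : ∀ x ∈ A, ∀ y ∈ A, x * y = y * x
  AC : ∀ x ∈ A, ∀ y ∈ C, x * y = y * x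
  BC : ∀ x ∈ B, ∀ y ∈ C, x * y = y * x
  kappa_mem : ∀ τ ∈ A, ∀ s ∈ B, kappa τ s ∈ C
  nondeg : ∀ τ ∈ A, ∀ s ∈ B, kappa τ s = 1 → τ = 1 ∨ s = 1
  finite_C : Finite C
  card_AC : Nat.card A = Nat.card C
  card_BC : Nat.card B = Nat.card C
  finite_A : Finite A

variable {A B C : Subgroup Γ}

theorem kappa_mul_left (h : KData A B C) {τ τ' s : Γ} (hτ : τ ∈ A) (hτ' : τ' ∈ A) (hs : s ∈ B) :
    kappa (τ * τ') s = kappa τ s * kappa τ' s := by
  have hk := h.kappa_mem τ hτ s hs
  have hc : τ'⁻¹ * kappa τ s = kappa τ s * τ'⁻¹ := h.AC _ (A.inv_mem hτ') _ hk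
  have e1 : kappa (τ * τ') s = τ'⁻¹ * kappa τ s * (s * τ' * s⁻¹) := by
    simp only [kappa]
    group
  rw [e1, hc]
  simp only [kappa]
  group

theorem kappa_mul_right (h : KData A B C) {τ s s' : Γ} (hτ : τ ∈ A) (hs : s ∈ B) (hs' : s' ∈ B) :
    kappa τ (s * s') = kappa τ s * kappa τ s' := by
  have hk := h.kappa_mem τ hτ s' hs'
  have hc : s⁻¹ * kappa τ s' = kappa τ s' * s⁻¹ := h.BC _ (B.inv_mem hs) _ hk
  have e1 : kappa τ (s * s') = τ⁻¹ * s * τ * (kappa τ s' * s⁻¹) := by
    simp only [kappa]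
    group
  rw [e1, ← hc]
  simp only [kappa]
  group

/-- The pairing and the additive structure. -/
theorem exists_pairing (h : KData A B C) {τ₁ s₁ : Γ} (hτ : τ₁ ∈ A) (hτ1 : τ₁ ≠ 1) (hs : s₁ ∈ B)
    (hs1 : s₁ ≠ 1) :
    ∃ (D : Type u) (_ : AddCommGroup D) (_ : Finite D) (mu : D → D → D) (e : D) (el sm al : D → Γ),
      RLaws mu e ∧ el e = τ₁ ∧ sm e = s₁ ∧
      (∀ x, el x ∈ A) ∧ (∀ g ∈ A, ∃ x, el x = g) ∧ (∀ x y, el (x + y) = el x * el y) ∧
      Function.Injective el ∧
      (∀ x, al x ∈ C) ∧ (∀ g ∈ C, ∃ x, al x = g) ∧ (∀ x y, al (x + y) = al x * al y) ∧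
      Function.Injective al ∧
      (∀ m, sm m ∈ B) ∧ (∀ g ∈ B, ∃ m, sm m = g) ∧ (∀ m n, sm (m + n) = sm m * sm n) ∧
      Function.Injective sm ∧
      (∀ x m, kappa (el x) (sm m) = al (mu x m)) ∧
      (∀ x, al x = kappa (el x) s₁) := by
  have := h.finite_C
  have := h.finite_A
  let αh : A →* C := MonoidHom.mk' (fun τ => ⟨kappa τ.1 s₁, h.kappa_mem _ τ.2 _ hs⟩)
    (fun x y => Subtype.ext (kappa_mul_left h x.2 y.2 hs))
  let βh : B →* C := MonoidHom.mk' (fun s => ⟨kappa τ₁ s.1, h.kappa_mem _ hτ _ s.2⟩)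
    (fun x y => Subtype.ext (kappa_mul_right h hτ x.2 y.2))
  have hαi : Function.Injective αh := by
    refine (injective_iff_map_eq_one _).2 ?_
    intro x hx
    have h1 : kappa x.1 s₁ = 1 := congrArg Subtype.val hx
    rcases h.nondeg _ x.2 _ hs h1 with h2 | h2
    · exact Subtype.ext h2
    · exact absurd h2 hs1
  have hβi : Function.Injective βh := by
    refine (injective_iff_map_eq_one _).2 ?_
    intro x hx
    have h1 : kappa τ₁ x.1 = 1 := congrArg Subtype.val hx
    rcases h.nondeg _ hτ _ x.2 h1 with h2 | h2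
    · exact absurd h2 hτ1
    · exact Subtype.ext h2
  have hαb : Function.Bijective αh := hαi.bijective_of_nat_card_le (le_of_eq h.card_AC.symm)
  have hβb : Function.Bijective βh := hβi.bijective_of_nat_card_le (le_of_eq h.card_BC.symm)
  let αe : A ≃* C := MulEquiv.ofBijective αh hαb
  let βe : B ≃* C := MulEquiv.ofBijective βh hβb
  have hαe : ∀ x : A, (αe x).1 = kappa x.1 s₁ := fun _ => rfl
  have hβe : ∀ x : B, (βe x).1 = kappa τ₁ x.1 := fun _ => rfl
  let cg : CommGroup A := { (inferInstance : Group A) with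
    mul_comm := fun x y => Subtype.ext (h.A_comm _ x.2 _ y.2) }
  -- the slope map
  let sA : A → B := fun m => βe.symm (αe m)
  have hsA : ∀ m n : A, sA (m * n) = sA m * sA n := by
    intro m n
    simp only [sA, map_mul]
  -- the multiplication
  let muA : A → A → A := fun x m =>
    αe.symm ⟨kappa x.1 (sA m).1, h.kappa_mem _ x.2 _ (sA m).2⟩
  have hmuA : ∀ x m : A, (αe (muA x m)).1 = kappa x.1 (sA m).1 := by
    intro x m
    simp only [muA, MulEquiv.apply_symm_apply]
  have hsτ : ∀ m : A, kappa τ₁ (sA m).1 = (αe m).1 := by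
    intro m
    have h1 := hβe (sA m)
    simp only [sA, MulEquiv.apply_symm_apply] at h1 ⊢
    exact h1.symm
  let t₁ : A := ⟨τ₁, hτ⟩
  have hst : (sA t₁).1 = s₁ := by
    have h1 : βe ⟨s₁, hs⟩ = αe t₁ := by
      apply Subtype.ext
      rfl
    have h2 : sA t₁ = ⟨s₁, hs⟩ := by
      simp only [sA, ← h1, MulEquiv.symm_apply_apply]
    rw [h2]
  refine ⟨Additive (↥A), inferInstance, inferInstance,
    fun x m => Additive.ofMul (muA x.toMul m.toMul), Additive.ofMul t₁,
    fun x => (x.toMul).1, fun m => (sA m.toMul).1, fun x => (αe x.toMul).1,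
    ?_, rfl, hst, ?_, ?_, ?_, ?_, ?_, ?_, ?_, ?_, ?_, ?_, ?_, ?_, ?_, ?_⟩
  · refine ⟨?_, ?_, ?_, ?_, ?_⟩
    · intro x x' m
      apply Additive.toMul.injective
      apply αe.injective
      apply Subtype.ext
      show (αe (muA (x.toMul * x'.toMul) m.toMul)).1 = (αe (muA x.toMul m.toMul * muA x'.toMul m.toMul)).1
      rw [map_mul]
      show _ = (αe (muA x.toMul m.toMul)).1 * (αe (muA x'.toMul m.toMul)).1
      rw [hmuA, hmuA, hmuA]
      exact kappa_mul_left h x.toMul.2 x'.toMul.2 (sA m.toMul).2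
    · intro x m m'
      apply Additive.toMul.injective
      apply αe.injective
      apply Subtype.ext
      show (αe (muA x.toMul (m.toMul * m'.toMul))).1 = (αe (muA x.toMul m.toMul * muA x.toMul m'.toMul)).1
      rw [map_mul]
      show _ = (αe (muA x.toMul m.toMul)).1 * (αe (muA x.toMul m'.toMul)).1
      rw [hmuA, hmuA, hmuA, hsA]
      exact kappa_mul_right h x.toMul.2 (sA m.toMul).2 (sA m'.toMul).2
    · intro m
      apply Additive.toMul.injective
      apply αe.injective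
      apply Subtype.ext
      show (αe (muA t₁ m.toMul)).1 = (αe m.toMul).1
      rw [hmuA]
      exact hsτ _
    · intro x
      apply Additive.toMul.injective
      apply αe.injective
      apply Subtype.ext
      show (αe (muA x.toMul t₁)).1 = (αe x.toMul).1
      rw [hmuA, hst]
      rfl
    · intro h0
      apply hτ1
      have h1 : t₁ = 1 := Additive.ofMul.injective h0
      exact congrArg Subtype.val h1
  · intro x
    exact x.toMul.2
  · intro g hg
    exact ⟨Additive.ofMul ⟨g, hg⟩, rfl⟩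
  · intro x y
    rfl
  · intro x y hxy
    exact Additive.toMul.injective (Subtype.ext hxy)
  · intro x
    exact (αe x.toMul).2
  · intro g hg
    refine ⟨Additive.ofMul (αe.symm ⟨g, hg⟩), ?_⟩
    show (αe (αe.symm ⟨g, hg⟩)).1 = g
    rw [MulEquiv.apply_symm_apply]
  · intro x y
    show (αe (x.toMul * y.toMul)).1 = (αe x.toMul).1 * (αe y.toMul).1
    rw [map_mul]
    rfl
  · intro x y hxy
    exact Additive.toMul.injective (αe.injective (Subtype.ext hxy))
  · intro m
    exact (sA m.toMul).2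
  · intro g hg
    refine ⟨Additive.ofMul (αe.symm (βe ⟨g, hg⟩)), ?_⟩
    show (βe.symm (αe (αe.symm (βe ⟨g, hg⟩)))).1 = g
    rw [MulEquiv.apply_symm_apply, MulEquiv.symm_apply_apply]
  · intro m n
    show (sA (m.toMul * n.toMul)).1 = (sA m.toMul).1 * (sA n.toMul).1
    rw [hsA]
    rfl
  · intro m n hmn
    have h1 : sA m.toMul = sA n.toMul := Subtype.ext hmn
    have h2 : αe m.toMul = αe n.toMul := βe.symm.injective h1
    exact Additive.toMul.injective (αe.injective h2)
  · intro x m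
    exact (hmuA x.toMul m.toMul).symm
  · intro x
    exact hαe x.toMul

end Cfsg.Agent.Lib.OW.T3K
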